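import Cfsg.Agent.H296.JT.Three
import Cfsg.Agent.H715.Fpr.J3
import Cfsg.Agent.H305.OddJ3
import Cfsg.Agent.H59.EP.Count
import Cfsg.Agent.S0494
import Cfsg.Agent.S0497
import Cfsg.Agent.Lib.FastPerm
import Cfsg.Agent.SmallSimple.S1000.Order25920Local
import Cfsg.Agent.H940.EngData
import Cfsg.Agent.FastGrp
import Cfsg.Agent.Prune
set_option linter.all false

section
prune_inst 0x7f00000000000000000000000000000000000000000000000000000000000000000000000000000000000000000000000000000000000000000000000000000000000000000000000000000000000000003fffffffffffffffffffffffffffbeffbdffffffff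

-- part: H296/JT/El
section
set_option linter.all false
open scoped Cfsg.Agent.FastGrp

/-!
# S3499, `J₃`: the elementary abelian subgroups (helper296)
-/

set_option autoImplicit false
set_option linter.unusedSectionVars false
set_option linter.unusedVariables false

namespace Cfsg.Agent.H296.JT

open Subgroup Cfsg Cfsg.Spor Cfsg.Agent.H59.EP Cfsg.Agent.J3Type.OneClass

section gen
variable {K : Type*} [Group K] [Finite K]

theorem index_le_of {H : Subgroup K} {n a b : ℕ} (hK : Nat.card K = n) (hH : a ≤ Nat.card H) (ha : 0 < a)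
    (hb : n < a * (b + 1)) : H.index ≤ b := by
  have h := H.card_mul_index
  rw [hK] at h
  by_contra hcon
  push Not at hcon
  have h1 : a * (b + 1) ≤ Nat.card H * H.index := Nat.mul_le_mul hH hcon
  omega

/-- the elementary abelian `s`-subgroups, `s ^ 2 ∤ |K|` -/
theorem ncard_elab_prime {s c : ℕ} (hs : s.Prime) (h2 : ¬ s ^ 2 ∣ Nat.card K)
    (hc : ∀ P : Subgroup K, Nat.card P = s → (normalizer (P : Set K)).index ≤ c) :
    {E : Subgroup K | ElAb s E ∧ E ≠ ⊥}.ncard ≤ c := by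
  refine (Set.ncard_le_ncard ?_ (Set.toFinite _)).trans (ncard_sub_le hs h2 hc)
  rintro E ⟨h1, hne⟩
  obtain ⟨m, hm, hE⟩ := elab_card hs h1 hne
  have hm1 : m = 1 := by
    by_contra hm1
    apply h2
    have h3 : s ^ 2 ∣ s ^ m := pow_dvd_pow s (by omega)
    rw [← hE] at h3
    exact h3.trans (card_subgroup_dvd_card E)
  show Nat.card E = s
  rw [hE, hm1, pow_one]

/-- `p`-subgroups -/
theorem elab_isPGroup {s : ℕ} {E : Subgroup K} (h : ElAb s E) : IsPGroup s E := by
  rintro ⟨y, hy⟩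
  refine ⟨1, Subtype.ext ?_⟩
  rw [pow_one]
  exact h.exp y hy

theorem cent_le_norm {s : ℕ} {E : Subgroup K} {x : K} (hE : E = zpowers x) :
    centralizer ({x} : Set K) ≤ normalizer (E : Set K) := by
  rw [hE]
  refine le_trans ?_ (centralizer_le_normalizer _)
  rw [← Cfsg.Agent.H898.J3Cent.centralizer_zpowers x]

end gen

variable {K : Type} [Group K]

theorem card_eq (h : IsoJ3 K) : Nat.card K = 2 ^ 7 * (3 ^ 5 * (5 * (17 * 19))) := by
  rw [card_j3 h]; norm_num

/-! ### the prime 2 -/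

theorem T2 (h : IsoJ3 K) : {E : Subgroup K | ElAb 2 E ∧ E ≠ ⊥}.ncard ≤ 9500000 := by
  have := fin_j3 h
  refine (ncard_all_le (m := 7) Nat.prime_two (ncard_inv h) (fun y hy hy1 => ncard_comm h hy hy1) ?_).trans ?_
  · rw [card_j3 h]
    norm_num
  · decide +kernel

/-! ### the prime 3 -/

theorem card_syl (h : IsoJ3 K) : {S : Subgroup K | Nat.card S = 243}.ncard ≤ 206720 := by
  have := fin_j3 h
  have f3 := Fact.mk Nat.prime_three
  have hfac : (Nat.card K).factorization 3 = 5 := by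
    rw [card_j3 h, show (50232960 : ℕ) = 3 ^ 5 * 206720 by norm_num,
      Nat.factorization_mul (by norm_num) (by norm_num), Finsupp.add_apply, Nat.prime_three.factorization_pow,
      Finsupp.single_eq_same, Nat.factorization_eq_zero_of_not_dvd (by norm_num)]
  have hcard : ∀ S : Subgroup K, Nat.card S = 243 → Nat.card S = 3 ^ (Nat.card K).factorization 3 := by
    intro S hS
    rw [hS, hfac]; norm_num
  let S0 : Sylow 3 K := default
  have h1 : {S : Subgroup K | Nat.card S = 243}.ncard ≤ Nat.card (Sylow 3 K) := by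
    rw [← Nat.card_coe_set_eq]
    exact Nat.card_le_card_of_injective (fun P : {P : Subgroup K | Nat.card P = 243} =>
      Sylow.ofCard P.1 (hcard P.1 P.2)) fun P P' h => by
        have h1 := congrArg (fun S : Sylow 3 K => (S : Subgroup K)) h
        exact Subtype.ext h1
  refine h1.trans ?_
  have e : (normalizer ((S0 : Subgroup K) : Set K)).index = Nat.card (Sylow 3 K) := S0.card_eq_index_normalizer.symm
  rw [← e]
  refine index_le_of (card_j3 h) (a := 243) ?_ (by norm_num) (by norm_num)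
  have h2 : Nat.card (S0 : Subgroup K) = 243 := by
    rw [S0.card_eq_multiplicity, hfac]; norm_num
  rw [← h2]
  exact Nat.card_le_card_of_injective _ (Subgroup.inclusion_injective le_normalizer)

theorem exists_syl (h : IsoJ3 K) {E : Subgroup K} (hE : IsPGroup 3 E) : ∃ S : Subgroup K, Nat.card S = 243 ∧ E ≤ S := by
  have := fin_j3 h
  have f3 := Fact.mk Nat.prime_three
  have hfac : (Nat.card K).factorization 3 = 5 := by
    rw [card_j3 h, show (50232960 : ℕ) = 3 ^ 5 * 206720 by norm_num,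
      Nat.factorization_mul (by norm_num) (by norm_num), Finsupp.add_apply, Nat.prime_three.factorization_pow,
      Finsupp.single_eq_same, Nat.factorization_eq_zero_of_not_dvd (by norm_num)]
  obtain ⟨S, hS⟩ := hE.exists_le_sylow
  exact ⟨S, by rw [S.card_eq_multiplicity, hfac]; norm_num, hS⟩

theorem T3 (h : IsoJ3 K) : {E : Subgroup K | ElAb 3 E ∧ E ≠ ⊥}.ncard ≤ 5581440 := by
  classical
  have := fin_j3 h
  have hW := hasW h
  choose! W hW1 hW2 hW3 hW4 using hW
  have h0 : ∀ E ∈ {E : Subgroup K | ElAb 3 E ∧ E ≠ ⊥}, ∃ S : Subgroup K, Nat.card S = 243 ∧ E ≤ S :=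
    fun E hE => exists_syl h (elab_isPGroup hE.1)
  choose! S hS1 hS2 using h0
  have h1 : {E : Subgroup K | ElAb 3 E ∧ E ≠ ⊥}.ncard ≤ {p : Subgroup K × Subgroup K |
      p.1 ∈ {S : Subgroup K | Nat.card S = 243} ∧ p.2 ∈ {E : Subgroup K | E ≤ W p.1 ∧ ElAb 3 E ∧ E ≠ ⊥}}.ncard := by
    refine Set.ncard_le_ncard_of_injOn (fun E => (S E, E)) ?_ ?_ (Set.toFinite _)
    · intro E hE
      refine ⟨hS1 E hE, ?_, hE.1, hE.2⟩
      intro x hx
      exact hW4 _ (hS1 E hE) x (hS2 E hE hx) (hE.1.exp x hx)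
    · intro E _ E' _ e
      exact (Prod.mk.injEq _ _ _ _ ▸ e : _ ∧ _).2
  have h2 : {p : Subgroup K × Subgroup K |
      p.1 ∈ {S : Subgroup K | Nat.card S = 243} ∧ p.2 ∈ {E : Subgroup K | E ≤ W p.1 ∧ ElAb 3 E ∧ E ≠ ⊥}}.ncard ≤
      206720 * 27 := by
    refine ncard_sig_le (S := {S : Subgroup K | Nat.card S = 243})
      (R := fun S => {E : Subgroup K | E ≤ W S ∧ ElAb 3 E ∧ E ≠ ⊥}) (card_syl h) fun S hS => ?_
    refine (ncard_elab_le Nat.prime_three (a := 3) (by rw [hW1 S hS]; norm_num)).trans ?_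
    decide
  exact h1.trans (h2.trans (by norm_num))

/-! ### the primes 5, 17, 19 -/

theorem idx5 (h : IsoJ3 K) (P : Subgroup K) (hP : Nat.card P = 5) : (normalizer (P : Set K)).index ≤ 837216 := by
  have := fin_j3 h
  refine index_le_of (card_j3 h) (a := 60) ?_ (by norm_num) (by norm_num)
  have h1 := Cfsg.Agent.H715.Fpr.J3.n5 h P hP
  simp only [List.mem_cons, List.not_mem_nil, or_false] at h1
  rcases h1 with h1 | h1 <;> rw [h1]
  norm_num

theorem idx17 (h : IsoJ3 K) (P : Subgroup K) (hP : Nat.card P = 17) : (normalizer (P : Set K)).index ≤ 369360 := by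
  have := fin_j3 h
  exact index_le_of (card_j3 h) (a := 136) (Cfsg.Agent.H715.Fpr.J3.cn17 h hP).2.ge (by norm_num) (by norm_num)

theorem idx19 (h : IsoJ3 K) (P : Subgroup K) (hP : Nat.card P = 19) : (normalizer (P : Set K)).index ≤ 293760 := by
  have := fin_j3 h
  exact index_le_of (card_j3 h) (a := 171) (Cfsg.Agent.H715.Fpr.J3.cn19 h hP).2.ge (by norm_num) (by norm_num)

theorem T5 (h : IsoJ3 K) : {E : Subgroup K | ElAb 5 E ∧ E ≠ ⊥}.ncard ≤ 837216 := by
  have := fin_j3 h
  exact ncard_elab_prime (by norm_num) (by rw [card_j3 h]; norm_num) (idx5 h)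

theorem T17 (h : IsoJ3 K) : {E : Subgroup K | ElAb 17 E ∧ E ≠ ⊥}.ncard ≤ 369360 := by
  have := fin_j3 h
  exact ncard_elab_prime (by norm_num) (by rw [card_j3 h]; norm_num) (idx17 h)

theorem T19 (h : IsoJ3 K) : {E : Subgroup K | ElAb 19 E ∧ E ≠ ⊥}.ncard ≤ 293760 := by
  have := fin_j3 h
  exact ncard_elab_prime (by norm_num) (by rw [card_j3 h]; norm_num) (idx19 h)

/-! ### the normalizers have order at least 16 -/

theorem exists_gen {s : ℕ} (hs : s.Prime) {E : Subgroup K} (hE : Nat.card E = s) : ∃ x, orderOf x = s ∧ E = zpowers x := by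
  have := Fact.mk hs
  have hfin : Finite E := Nat.finite_of_card_ne_zero (by rw [hE]; exact hs.ne_zero)
  obtain ⟨x, hx⟩ := exists_prime_orderOf_dvd_card' (G := E) s (by rw [hE])
  refine ⟨x, by rw [Subgroup.orderOf_coe, hx], ?_⟩
  symm
  apply Subgroup.eq_of_le_of_card_ge
  · rw [zpowers_le]; exact x.2
  · rw [Nat.card_zpowers, Subgroup.orderOf_coe, hx, hE]

theorem pow_dvd_norm [Finite K] {s n : ℕ} (hs : s.Prime) {E : Subgroup K} (hE : Nat.card E = s ^ n)
    (hd : s ^ (n + 1) ∣ Nat.card K) : s ^ (n + 1) ∣ Nat.card (normalizer (E : Set K)) := by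
  have := Fact.mk hs
  exact Sylow.prime_pow_dvd_card_normalizer hd hE

theorem cent_three_ge (h : IsoJ3 K) {x : K} (hx : orderOf x = 3) : 27 ≤ Nat.card (centralizer ({x} : Set K)) := by
  have := fin_j3 h
  have f3 := Fact.mk Nat.prime_three
  have h1 : IsPGroup 3 (zpowers x) := IsPGroup.of_card (n := 1) (by rw [Nat.card_zpowers, hx, pow_one])
  obtain ⟨S, hS, hxS⟩ := exists_syl h h1
  obtain ⟨W, hW1, hW2, -, hW4⟩ := hasW h S hS
  have hxW := hW4 x (hxS (mem_zpowers x)) (by rw [← hx, pow_orderOf_eq_one])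
  rw [← hW1]
  refine Nat.card_le_card_of_injective _ (Subgroup.inclusion_injective (fun y hy => ?_))
  rw [mem_centralizer_singleton_iff]
  exact hW2 y hy x hxW

theorem index_cent_le {C : Type*} [Group C] [Finite C] (t : C) {S : Set C} (h : ∀ g : C, g * t * g⁻¹ ∈ S) :
    (centralizer ({t} : Set C)).index ≤ S.ncard := by
  rw [← Nat.card_coe_set_eq]
  refine Nat.card_le_card_of_injective (fun q : C ⧸ centralizer ({t} : Set C) =>
    (⟨q.out * t * q.out⁻¹, h _⟩ : S)) ?_
  intro q q' e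
  have h1 : q.out * t * q.out⁻¹ = q'.out * t * q'.out⁻¹ := Subtype.ext_iff.1 e
  have h2 : (q.out)⁻¹ * q'.out ∈ centralizer ({t} : Set C) := by
    rw [mem_centralizer_singleton_iff]
    have h3 : q'.out * t = q.out * t * (q.out)⁻¹ * q'.out := by rw [h1]; group
    rw [mul_assoc, h3]
    group
  have h3 := QuotientGroup.eq.2 h2
  rwa [QuotientGroup.out_eq', QuotientGroup.out_eq'] at h3

theorem four (h : IsoJ3 K) {E : Subgroup K} (hE : ElAb 2 E) (hc : Nat.card E = 4) :
    16 ≤ Nat.card (normalizer (E : Set K)) := by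
  have := fin_j3 h
  have f2 := Fact.mk Nat.prime_two
  have h4 : 4 ∣ Nat.card (normalizer (E : Set K)) := by
    rw [← hc]; exact card_dvd_of_le le_normalizer
  -- two involutions
  have hnt : (E : Set K).Nontrivial := by
    rw [← Set.one_lt_ncard_iff_nontrivial]
    have : (E : Set K).ncard = Nat.card E := rfl
    omega
  obtain ⟨z, hz, hz1⟩ := hnt.exists_ne 1
  have hex : ∃ t ∈ E, t ∉ ({1, z} : Set K) := by
    by_contra hcon
    push Not at hcon
    have h1 : (E : Set K) ⊆ {1, z} := fun t ht => hcon t ht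
    have h2 := Set.ncard_le_ncard h1 (Set.toFinite _)
    have h3 : (E : Set K).ncard = Nat.card E := rfl
    have h4 : ({1, z} : Set K).ncard ≤ 2 := by
      refine (Set.ncard_insert_le _ _).trans ?_
      rw [Set.ncard_singleton]
    omega
  obtain ⟨t, ht, htn⟩ := hex
  simp only [Set.mem_insert_iff, Set.mem_singleton_iff, not_or] at htn
  have hz2 : z ^ 2 = 1 := hE.exp z hz
  have hC := ((CpAutJThree.base h).2.1 z (orderOf_eq_prime hz2 hz1)).2.1
  have htC : t ∈ centralizer ({z} : Set K) := by rw [mem_centralizer_singleton_iff]; exact hE.comm t ht z hz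
  have h1 := index_cent_le (⟨t, htC⟩ : centralizer ({z} : Set K))
    (S := {x : centralizer ({z} : Set K) | (x : K) ^ 2 = 1}) (fun g => by
      show (((g : K) * t * (g : K)⁻¹)) ^ 2 = 1
      rw [conj_pow, hE.exp t ht, mul_one, mul_inv_cancel])
  have h2 : {x : centralizer ({z} : Set K) | (x : K) ^ 2 = 1}.ncard ≤ 152 := by
    refine le_trans ?_ (ncard_comm h hz2 hz1)
    refine Set.ncard_le_ncard_of_injOn (fun x => (x : K)) ?_ (Subtype.val_injective.injOn) (Set.toFinite _)
    intro x hx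
    exact ⟨hx, mem_centralizer_singleton_iff.1 x.2⟩
  have h3 := (centralizer ({(⟨t, htC⟩ : centralizer ({z} : Set K))} : Set (centralizer ({z} : Set K)))).card_mul_index
  rw [hC] at h3
  have h5 : Nat.card (centralizer ({(⟨t, htC⟩ : centralizer ({z} : Set K))} : Set (centralizer ({z} : Set K)))) ≤
      Nat.card (normalizer (E : Set K)) := by
    refine Nat.card_le_card_of_injective (fun x => (⟨(x.1 : K), ?_⟩ : normalizer (E : Set K))) ?_
    · apply centralizer_le_normalizer
      have hx1 : (x.1 : K) * z = z * x.1 := mem_centralizer_singleton_iff.1 x.1.2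
      have hx2 : (x.1 : K) * t = t * x.1 := congrArg Subtype.val (mem_centralizer_singleton_iff.1 x.2)
      have hle : E ≤ centralizer ({(x.1 : K)} : Set K) := by
        have h6 : Nat.card ↥(E ⊓ centralizer ({(x.1 : K)} : Set K)) ∣ 4 := by
          rw [← hc]; exact card_dvd_of_le inf_le_left
        have h7 : 3 ≤ Nat.card ↥(E ⊓ centralizer ({(x.1 : K)} : Set K)) := by
          have h8 : ({1, z, t} : Set K) ⊆ ((E ⊓ centralizer ({(x.1 : K)} : Set K) : Subgroup K) : Set K) := by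
            rintro y (rfl | rfl | rfl)
            · exact one_mem _
            · exact ⟨hz, mem_centralizer_singleton_iff.2 hx1.symm⟩
            · exact ⟨ht, mem_centralizer_singleton_iff.2 hx2.symm⟩
          have h9 := Set.ncard_le_ncard h8 (Set.toFinite _)
          have h10 : ({1, z, t} : Set K).ncard = 3 := by
            rw [Set.ncard_eq_three]
            exact ⟨1, z, t, hz1.symm, fun h => htn.1 h.symm, fun h => htn.2 h.symm, rfl⟩
          have h11 : ((E ⊓ centralizer ({(x.1 : K)} : Set K) : Subgroup K) : Set K).ncard =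
            Nat.card ↥(E ⊓ centralizer ({(x.1 : K)} : Set K)) := rfl
          omega
        have h8 : Nat.card ↥(E ⊓ centralizer ({(x.1 : K)} : Set K)) = Nat.card E := by
          rw [hc]
          have := Nat.le_of_dvd (by norm_num) h6
          interval_cases h12 : Nat.card ↥(E ⊓ centralizer ({(x.1 : K)} : Set K))
          · norm_num at h6
          · rfl
        exact inf_eq_left.1 (Subgroup.eq_of_le_of_card_ge inf_le_left h8.ge)
      rw [mem_centralizer_iff]
      intro y hy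
      exact mem_centralizer_singleton_iff.1 (hle hy)
    · intro x x' e
      have e1 : (x.1 : K) = (x'.1 : K) := congrArg (fun y : normalizer (E : Set K) => (y : K)) e
      exact Subtype.ext (Subtype.ext e1)
  have h6 : (centralizer ({(⟨t, htC⟩ : centralizer ({z} : Set K))} : Set (centralizer ({z} : Set K)))).index ≤ 152 := h1.trans h2
  have h7 : 1920 ≤ Nat.card (normalizer (E : Set K)) * 152 := by
    rw [← h3]; exact Nat.mul_le_mul h5 h6
  omega

theorem sixteen (h : IsoJ3 K) {s : ℕ} (hs : s.Prime) (hd : s ∣ Nat.card K) {E : Subgroup K} (hE : ElAb s E) (hne : E ≠ ⊥) :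
    16 ≤ Nat.card (normalizer (E : Set K)) := by
  have := fin_j3 h
  obtain ⟨m, hm, hcE⟩ := elab_card hs hE hne
  have hEN : Nat.card E ≤ Nat.card (normalizer (E : Set K)) :=
    Nat.card_le_card_of_injective _ (Subgroup.inclusion_injective le_normalizer)
  rw [card_j3 h] at hd
  rcases Cfsg.Agent.H898.J3Cent.prime_dvd_card hs hd with rfl | rfl | rfl | rfl | rfl
  · -- `s = 2`
    rcases Nat.lt_or_ge m 4 with h4 | h4
    · interval_cases m
      · obtain ⟨x, hx, rfl⟩ := exists_gen hs (hcE.trans (pow_one 2))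
        have h1 := ((CpAutJThree.base h).2.1 x hx).2.1
        have h2 : Nat.card (centralizer ({x} : Set K)) ≤ Nat.card (normalizer ((zpowers x : Subgroup K) : Set K)) :=
          Nat.card_le_card_of_injective _ (Subgroup.inclusion_injective (cent_le_norm (s := 2) rfl))
        omega
      · exact four h hE (hcE.trans (by norm_num))
      · have h1 := Nat.le_of_dvd Nat.card_pos (pow_dvd_norm hs hcE (by rw [card_j3 h]; norm_num))
        omega
    · have h1 : 2 ^ 4 ≤ 2 ^ m := Nat.pow_le_pow_right (by norm_num) h4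
      omega
  · rcases Nat.lt_or_ge m 3 with h4 | h4
    · interval_cases m
      · obtain ⟨x, hx, rfl⟩ := exists_gen hs (hcE.trans (pow_one 3))
        have h1 := cent_three_ge h hx
        have h2 : Nat.card (centralizer ({x} : Set K)) ≤ Nat.card (normalizer ((zpowers x : Subgroup K) : Set K)) :=
          Nat.card_le_card_of_injective _ (Subgroup.inclusion_injective (cent_le_norm (s := 3) rfl))
        omega
      · have h1 := Nat.le_of_dvd Nat.card_pos (pow_dvd_norm hs hcE (by rw [card_j3 h]; norm_num))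
        omega
    · have h1 : 3 ^ 3 ≤ 3 ^ m := Nat.pow_le_pow_right (by norm_num) h4
      omega
  · rcases Nat.lt_or_ge m 2 with h4 | h4
    · interval_cases m
      have h1 := Cfsg.Agent.H715.Fpr.J3.n5 h E (hcE.trans (pow_one 5))
      simp only [List.mem_cons, List.not_mem_nil, or_false] at h1
      omega
    · have h1 : 5 ^ 2 ≤ 5 ^ m := Nat.pow_le_pow_right (by norm_num) h4
      omega
  · have h1 : 17 ^ 1 ≤ 17 ^ m := Nat.pow_le_pow_right (by norm_num) hm
    omega
  · have h1 : 19 ^ 1 ≤ 19 ^ m := Nat.pow_le_pow_right (by norm_num) hm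
    omega

end Cfsg.Agent.H296.JT
end

-- part: H296/JT/Five
section
set_option linter.all false
open scoped Cfsg.Agent.FastGrp

/-!
# S3499, `J₃`: the elements of order 5 (helper296)
-/

set_option autoImplicit false
set_option linter.unusedSectionVars false
set_option linter.unusedVariables false

namespace Cfsg.Agent.H296.JT

open Subgroup Cfsg Cfsg.Spor Cfsg.Agent.J3Type.OneClass

variable {K : Type} [Group K]

theorem not_90 (h : IsoJ3 K) {y : K} (hy : orderOf y = 5) : ¬ 9 ∣ Nat.card (centralizer ({y} : Set K)) := by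
  intro hd
  have := fin_j3 h
  have f3 := Fact.mk Nat.prime_three
  obtain ⟨hcard, hM, hone, -⟩ := CpAutJThree.base h
  obtain ⟨Q, hQ⟩ := Sylow.exists_subgroup_card_pow_prime (G := centralizer ({y} : Set K)) 3 (n := 2) (by simpa using hd)
  have hQc : ∀ a b : Q, a * b = b * a := (IsPGroup.isMulCommutative_of_card_eq_prime_sq hQ).is_comm.comm
  obtain ⟨x, hx⟩ := exists_prime_orderOf_dvd_card' (G := Q) 3 (by rw [hQ]; norm_num)
  have hx' : orderOf ((x : centralizer ({y} : Set K)) : K) = 3 := by rw [Subgroup.orderOf_coe, Subgroup.orderOf_coe, hx]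
  obtain ⟨w, hw⟩ : ∃ w : Q, w ∉ zpowers x := by
    by_contra hcon
    push Not at hcon
    have h1 : zpowers x = ⊤ := by rw [eq_top_iff]; intro w _; exact hcon w
    have h2 := Nat.card_zpowers x
    rw [h1, card_top, hQ, hx] at h2
    norm_num at h2
  set c : K := ((x : centralizer ({y} : Set K)) : K) with hc
  have hxy : c * y = y * c := mem_centralizer_singleton_iff.1 x.1.2
  have hwy : (w.1.1 : K) * y = y * w.1.1 := mem_centralizer_singleton_iff.1 w.1.2
  have hwc : (w.1.1 : K) * c = c * w.1.1 := congrArg Subtype.val (congrArg Subtype.val (hQc w x))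
  obtain ⟨t, ht, htc⟩ := H305.OddJ3.even_of_five h hx' hy hxy
  have hCc : Nat.card (centralizer ({c} : Set K)) = 1080 := by
    rcases H305.OddJ3.cent_three h hx' with h1 | h1
    · exact h1
    · exfalso
      have h2 : 2 ∣ Nat.card (centralizer ({c} : Set K)) := by
        rw [← ht]; exact Subgroup.orderOf_dvd_natCard _ (mem_centralizer_singleton_iff.2 htc)
      have := h2.trans h1
      norm_num at this
  have memC : ∀ a : K, a ∈ centralizer ({c} : Set K) ↔ a * c = c * a := fun a => mem_centralizer_singleton_iff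
  let d : centralizer ({c} : Set K) := ⟨c, (memC c).2 rfl⟩
  have hd3 : orderOf d = 3 := by rw [← hx']; exact orderOf_mk _ _
  have hdd : ∀ a : centralizer ({c} : Set K), a * d = d * a := fun a => Subtype.ext ((memC a).1 a.2)
  have hZn : (zpowers d).Normal := by
    constructor
    rintro n ⟨k, rfl⟩ g
    refine ⟨k, ?_⟩
    have h1 : Commute g d := hdd g
    have := h1.zpow_right k
    show d ^ k = g * d ^ k * g⁻¹
    rw [this.eq]; group
  have hHD8 := J3Type.Extra.hd8_quotient d hd3 hdd (CpAutJThree.hD_of_model hM hx')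
  have hq : Nat.card (↥(centralizer ({c} : Set K)) ⧸ zpowers d) = 360 := by
    have := card_eq_card_quotient_mul_card_subgroup (zpowers d)
    rw [hCc, Nat.card_zpowers, hd3] at this
    omega
  have f2 := Fact.mk Nat.prime_two
  obtain ⟨s', hs'⟩ := exists_prime_orderOf_dvd_card' (G := ↥(centralizer ({c} : Set K)) ⧸ zpowers d) 2
    (by rw [hq]; norm_num)
  have hsim := J3Type.Extra.isSimple hHD8 hs'
  let W : centralizer ({c} : Set K) := ⟨w.1.1, (memC _).2 hwc⟩
  let Y : centralizer ({c} : Set K) := ⟨y, (memC y).2 hxy.symm⟩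
  have hYo : orderOf Y = 5 := by rw [← hy]; exact orderOf_mk _ _
  let π := QuotientGroup.mk' (zpowers d)
  have hWd : W ∉ zpowers d := by
    rintro ⟨k, hk⟩
    apply hw
    refine ⟨k, ?_⟩
    have h3 : c ^ k = (w.1.1 : K) := congrArg Subtype.val hk
    apply Subtype.ext
    apply Subtype.ext
    show (c : K) ^ k = _
    exact h3
  have hYd : Y ∉ zpowers d := by
    intro hYd
    have h1 := Subgroup.orderOf_dvd_natCard (zpowers d) hYd
    rw [hYo, Nat.card_zpowers, hd3] at h1
    norm_num at h1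
  have hπY : orderOf (π Y) = 5 := by
    have h1 : orderOf (π Y) ∣ 5 := by rw [← hYo]; exact orderOf_map_dvd π Y
    rcases (Nat.dvd_prime Nat.prime_five).1 h1 with h2 | h2
    · exact absurd ((QuotientGroup.eq_one_iff _).1 (orderOf_eq_one_iff.1 h2)) hYd
    · exact h2
  have hW9 : W ^ 9 = 1 := by
    have h1 : w ^ 9 = 1 := by
      have := pow_card_eq_one' (x := w)
      rw [hQ] at this
      simpa using this
    apply Subtype.ext
    exact congrArg (fun z : Q => ((z : centralizer ({y} : Set K)) : K)) h1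
  have hπW1 : π W ≠ 1 := fun h1 => hWd ((QuotientGroup.eq_one_iff _).1 h1)
  have hπW : 3 ∣ Nat.card (zpowers (π W)) := by
    rw [Nat.card_zpowers]
    have h1 : orderOf (π W) ∣ 3 ^ 2 := orderOf_dvd_of_pow_eq_one (by
      rw [← map_pow]
      show π (W ^ 9) = 1
      rw [hW9, map_one])
    obtain ⟨k, hk, hk'⟩ := (Nat.dvd_prime_pow Nat.prime_three).1 h1
    rw [hk']
    refine dvd_pow_self 3 ?_
    rintro rfl
    rw [pow_zero, orderOf_eq_one_iff] at hk'
    exact hπW1 hk'
  obtain ⟨u, hu⟩ := exists_prime_orderOf_dvd_card' (G := zpowers (π W)) 3 hπW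
  have hu' : orderOf (u : ↥(centralizer ({c} : Set K)) ⧸ zpowers d) = 3 := by rw [Subgroup.orderOf_coe, hu]
  refine H305.OddJ3.not_comm_360 hq hu' hπY ?_
  obtain ⟨k, hk⟩ := u.2
  have h1 : Commute (π W) (π Y) := by
    show π W * π Y = π Y * π W
    rw [← map_mul, ← map_mul]
    congr 1
    exact Subtype.ext hwy
  have h2 := h1.zpow_left k
  have h3 : (π W) ^ k = u := hk
  rw [h3] at h2
  exact h2.eq

/-- **the elements of order 5** -/
theorem cn5 (h : IsoJ3 K) {x : K} (hx : orderOf x = 5) :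
    Nat.card (centralizer ({x} : Set K)) = 30 ∧ Nat.card (normalizer ((zpowers x : Subgroup K) : Set K)) = 60 := by
  have h1 := Cfsg.Agent.H715.Fpr.J3.cn5 h (R := zpowers x) (by rw [Nat.card_zpowers, hx])
  rw [Cfsg.Agent.H898.J3Cent.centralizer_zpowers] at h1
  rcases h1 with h1 | ⟨h1, -⟩ | ⟨h1, -⟩
  · exact h1
  · exact absurd (by rw [h1]; norm_num) (not_90 h hx)
  · exact absurd (by rw [h1]; norm_num) (not_90 h hx)

theorem ncard_five (h : IsoJ3 K) : {x : K | orderOf x = 5}.ncard ≤ 3348864 := by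
  have := fin_j3 h
  have h0 : {P : Subgroup K | Nat.card P = 5}.ncard ≤ 837216 :=
    ncard_sub_le (by norm_num) (by rw [card_j3 h]; norm_num) (idx5 h)
  have h1 : {x : K | orderOf x = 5}.ncard ≤ {p : Subgroup K × K | p.1 ∈ {P : Subgroup K | Nat.card P = 5} ∧
      p.2 ∈ {x : K | x ∈ p.1 ∧ x ≠ 1}}.ncard := by
    refine Set.ncard_le_ncard_of_injOn (fun x => (zpowers x, x)) ?_ ?_ (Set.toFinite _)
    · intro x hx
      have hx' : orderOf x = 5 := hx
      refine ⟨?_, mem_zpowers x, ?_⟩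
      · show Nat.card (zpowers x) = 5
        rw [Nat.card_zpowers, hx']
      · rintro rfl
        rw [orderOf_one] at hx'
        norm_num at hx'
    · intro x _ x' _ e
      exact (Prod.mk.injEq _ _ _ _ ▸ e : _ ∧ _).2
  have h2 : {p : Subgroup K × K | p.1 ∈ {P : Subgroup K | Nat.card P = 5} ∧
      p.2 ∈ {x : K | x ∈ p.1 ∧ x ≠ 1}}.ncard ≤ 837216 * 4 := by
    refine ncard_sig_le (S := {P : Subgroup K | Nat.card P = 5}) (R := fun P => {x : K | x ∈ P ∧ x ≠ 1}) h0
      fun P hP => ?_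
    have hP' : Nat.card P = 5 := hP
    have h3 : {x : K | x ∈ P ∧ x ≠ 1} = (P : Set K) \ {1} := by ext x; simp
    rw [h3, Set.ncard_sdiff_singleton_of_mem P.one_mem]
    have h4 : (P : Set K).ncard = Nat.card P := rfl
    omega
  exact h1.trans (h2.trans (by norm_num))

/-- the elements inverting an element -/
theorem ncard_inverting {K : Type*} [Group K] [Finite K] (x : K) : {t : K | t * x * t⁻¹ = x⁻¹}.ncard ≤
    Nat.card (centralizer ({x} : Set K)) := by
  rcases Set.eq_empty_or_nonempty {t : K | t * x * t⁻¹ = x⁻¹} with h0 | ⟨t0, ht0⟩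
  · rw [h0, Set.ncard_empty]; exact Nat.zero_le _
  · have ht0' : t0 * x * t0⁻¹ = x⁻¹ := ht0
    have e : Nat.card (centralizer ({x} : Set K)) = (centralizer ({x} : Set K) : Set K).ncard := rfl
    rw [e]
    refine Set.ncard_le_ncard_of_injOn (fun t => t0⁻¹ * t) ?_ ?_ (Set.toFinite _)
    · intro t ht
      have ht' : t * x * t⁻¹ = x⁻¹ := ht
      rw [SetLike.mem_coe, mem_centralizer_singleton_iff]
      have h1 : t * x = t0 * x * t0⁻¹ * t := by rw [ht0', ← ht']; group
      rw [mul_assoc, h1]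
      group
    · intro t _ t' _ e
      exact mul_left_cancel e

end Cfsg.Agent.H296.JT
end

-- part: H296/JT/Alt
section
set_option linter.all false
open scoped Cfsg.Agent.FastGrp

/-!
# S3499, `J₃`: generating tuples of the alternating groups of degrees 5 and 6 (helper296)
-/

set_option autoImplicit false
set_option linter.unusedSectionVars false
set_option linter.unusedVariables false

namespace Cfsg.Agent.H296.JT

open Subgroup

/-- two commuting elements of order `p` -/
theorem sq_dvd {X : Type*} [Group X] [Finite X] {p : ℕ} (hp : p.Prime) {a b : X} (ha : orderOf a = p) (hb : orderOf b = p)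
    (hab : b * a = a * b) (hne : b ∉ zpowers a) : p ^ 2 ∣ Nat.card X := by
  have haC : a ∈ centralizer ({a} : Set X) := mem_centralizer_singleton_iff.2 rfl
  have hbC : b ∈ centralizer ({a} : Set X) := mem_centralizer_singleton_iff.2 hab
  set C := centralizer ({a} : Set X) with hC
  let a' : C := ⟨a, haC⟩
  let b' : C := ⟨b, hbC⟩
  have hn : (zpowers a').Normal := by
    constructor
    rintro n ⟨k, rfl⟩ g
    refine ⟨k, ?_⟩
    have h1 : Commute g a' := Subtype.ext (mem_centralizer_singleton_iff.1 g.2)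
    have := h1.zpow_right k
    show a' ^ k = g * a' ^ k * g⁻¹
    rw [this.eq]; group
  have ha3 : Nat.card (zpowers a') = p := by rw [Nat.card_zpowers]; exact (orderOf_mk _ _).trans ha
  have hb3 : Nat.card (zpowers b') = p := by rw [Nat.card_zpowers]; exact (orderOf_mk _ _).trans hb
  have hinf : zpowers b' ⊓ zpowers a' = ⊥ := by
    have h1 : Nat.card ↥(zpowers b' ⊓ zpowers a') ∣ p := by rw [← hb3]; exact card_dvd_of_le inf_le_left
    rcases (Nat.dvd_prime hp).1 h1 with h2 | h2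
    · exact Subgroup.card_eq_one.1 h2
    · exfalso
      have h3 : zpowers b' ⊓ zpowers a' = zpowers b' := Subgroup.eq_of_le_of_card_ge inf_le_left (by rw [h2, hb3])
      have h4 : b' ∈ zpowers a' := by
        have h5 : b' ∈ zpowers b' ⊓ zpowers a' := by rw [h3]; exact mem_zpowers _
        exact h5.2
      obtain ⟨k, hk⟩ := h4
      exact hne ⟨k, congrArg Subtype.val hk⟩
  have h1 := Cfsg.Agent.H59.EP.card_mul_dvd hinf
  rw [ha3, hb3, ← pow_two] at h1
  exact h1.trans (card_subgroup_dvd_card C)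

theorem not_mem_zpowers {X : Type*} [Group X] [Finite X] {p : ℕ} {a b : X} (ha : orderOf a = p)
    (h : ∀ k < p, a ^ k ≠ b) : b ∉ zpowers a := by
  classical
  rw [mem_zpowers_iff_mem_range_orderOf, ha]
  simp only [Finset.mem_image, Finset.mem_range, not_exists, not_and]
  exact h

/-! ### degree 5 -/

abbrev A5 := alternatingGroup (Fin 5)
abbrev A6 := alternatingGroup (Fin 6)

/-- the 5-cycle -/
def x5 : Equiv.Perm (Fin 5) := ⟨![1, 2, 3, 4, 0], ![4, 0, 1, 2, 3], by decide, by decide⟩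
/-- inverts `x5` -/
def s5 : Equiv.Perm (Fin 5) := ⟨![0, 4, 3, 2, 1], ![0, 4, 3, 2, 1], by decide, by decide⟩
/-- commute with `s5` -/
def t5 : Fin 2 → Equiv.Perm (Fin 5) := ![⟨![0, 3, 4, 1, 2], ![0, 3, 4, 1, 2], by decide, by decide⟩,
  ⟨![0, 2, 1, 4, 3], ![0, 2, 1, 4, 3], by decide, by decide⟩]

theorem x5_mem : x5 ∈ A5 := by rw [Equiv.Perm.mem_alternatingGroup]; decide +kernel
theorem s5_mem : s5 ∈ A5 := by rw [Equiv.Perm.mem_alternatingGroup]; decide +kernel
theorem t5_mem (i : Fin 2) : t5 i ∈ A5 := by rw [Equiv.Perm.mem_alternatingGroup]; revert i; decide +kernel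

def X5 : A5 := ⟨x5, x5_mem⟩
def S5 : A5 := ⟨s5, s5_mem⟩
def T5' (i : Fin 2) : A5 := ⟨t5 i, t5_mem i⟩

theorem free5 : ∀ ρ : Equiv.Perm (Fin 5), ρ * x5 = x5 * ρ → ρ * s5 = s5 * ρ → ∀ i j : Fin 2, ρ * t5 i = t5 j * ρ →
    ρ = 1 ∧ i = j := by (set_option synthInstance.maxSize 9000 in open scoped Cfsg.Agent.Lib.FastPerm in decide +kernel)

theorem X5_order : orderOf X5 = 5 :=
  have := Fact.mk Nat.prime_five
  orderOf_eq_prime (by decide +kernel) (by decide +kernel)

theorem S5_sq : S5 ^ 2 = 1 ∧ S5 ≠ 1 ∧ S5 * X5 * S5⁻¹ = X5⁻¹ := by decide +kernel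
theorem T5_sq : ∀ i, T5' i ^ 2 = 1 ∧ T5' i ≠ 1 ∧ T5' i ≠ S5 ∧ T5' i * S5 = S5 * T5' i := by decide +kernel
theorem T5_three : ∀ i, (T5' i * X5) ^ 3 = 1 ∧ T5' i * X5 ≠ 1 ∨ (T5' i * X5 * X5) ^ 3 = 1 ∧ T5' i * X5 * X5 ≠ 1 := by
  decide +kernel

theorem card_A5 : Nat.card A5 = 60 := by
  rw [Nat.card_eq_fintype_card]
  (set_option synthInstance.maxSize 9000 in open scoped Cfsg.Agent.Lib.FastPerm in decide +kernel)

theorem orderOf_dvd_sub {X : Type*} [Group X] {H : Subgroup X} {y : X} (h : y ∈ H) {n : ℕ} (hy : orderOf y = n) :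
    n ∣ Nat.card H := by
  rw [← hy]
  exact Subgroup.orderOf_dvd_natCard H h

theorem gen5 (i : Fin 2) : closure ({X5, S5, T5' i} : Set A5) = ⊤ := by
  have f2 := Fact.mk Nat.prime_two
  have f3 := Fact.mk Nat.prime_three
  set H := closure ({X5, S5, T5' i} : Set A5) with hH
  have hx : X5 ∈ H := subset_closure (by simp)
  have hs : S5 ∈ H := subset_closure (by simp)
  have ht : T5' i ∈ H := subset_closure (by simp)
  have h5 : 5 ∣ Nat.card H := orderOf_dvd_sub hx X5_order
  have h3 : 3 ∣ Nat.card H := by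
    rcases T5_three i with ⟨h1, h2⟩ | ⟨h1, h2⟩
    · exact orderOf_dvd_sub (H.mul_mem ht hx) (orderOf_eq_prime h1 h2)
    · exact orderOf_dvd_sub (H.mul_mem (H.mul_mem ht hx) hx) (orderOf_eq_prime h1 h2)
  obtain ⟨h1, h2, -⟩ := S5_sq
  obtain ⟨h1', h2', h3', h4'⟩ := T5_sq i
  have hos : orderOf S5 = 2 := orderOf_eq_prime h1 h2
  have hot : orderOf (T5' i) = 2 := orderOf_eq_prime h1' h2'
  have h4 : 2 ^ 2 ∣ Nat.card H := by
    refine sq_dvd Nat.prime_two (a := (⟨S5, hs⟩ : H)) (b := ⟨T5' i, ht⟩) ((orderOf_mk _ _).trans hos)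
      ((orderOf_mk _ _).trans hot) (Subtype.ext h4') (not_mem_zpowers ((orderOf_mk _ _).trans hos) ?_)
    intro k hk
    interval_cases k
    · intro e
      exact h2' (by simpa using (congrArg Subtype.val e).symm)
    · intro e
      exact h3' (by simpa using (congrArg Subtype.val e).symm)
  apply Subgroup.eq_top_of_card_eq
  rw [card_A5]
  have h6 : Nat.card H ∣ 60 := by rw [← card_A5]; exact card_subgroup_dvd_card H
  have h7 : 60 ∣ Nat.card H := by omega
  exact Nat.dvd_antisymm h6 h7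

/-- the fibres for the groups of order 60 -/
theorem fib5 {K : Type*} [Group K] [Finite K] {X : Subgroup K} (hs : IsSimpleGroup X) (hX : Nat.card X = 60) :
    240 ≤ {p : K × K × K | (orderOf p.1 = 5 ∧ (p.2.1 * p.1 * p.2.1⁻¹ = p.1⁻¹ ∧ p.2.1 ^ 2 = 1 ∧ p.2.1 ≠ 1) ∧
      (p.2.2 ^ 2 = 1 ∧ p.2.2 ≠ 1 ∧ p.2.2 ≠ p.2.1 ∧ p.2.2 * p.2.1 = p.2.1 * p.2.2)) ∧
      closure ({p.1, p.2.1, p.2.2} : Set K) = X}.ncard := by
  obtain ⟨e⟩ := Cfsg.Agent.S0494.result (G := X) hX
  let ψ : A5 →* K := X.subtype.comp e.symm.toMonoidHom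
  have hψ : Function.Injective ψ := Subtype.val_injective.comp e.symm.injective
  have hr : ψ.range = X := by
    rw [MonoidHom.range_comp, MonoidHom.range_eq_top.2 e.symm.surjective, ← MonoidHom.range_eq_map, X.range_subtype]
  let θ : Equiv.Perm (Fin 5) → A5 →* K := fun σ => ψ.comp (MulAut.conjNormal σ : MulAut A5).toMonoidHom
  have hθ : ∀ σ, Function.Injective (θ σ) := fun σ => hψ.comp (MulAut.conjNormal σ : MulAut A5).injective
  have hrθ : ∀ σ, (θ σ).range = X := by
    intro σ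
    have h0 : (MulAut.conjNormal σ : MulAut A5).toMonoidHom.range = ⊤ :=
      MonoidHom.range_eq_top.2 (MulAut.conjNormal σ : MulAut A5).surjective
    rw [MonoidHom.range_comp, h0, ← MonoidHom.range_eq_map, hr]
  have hc : Nat.card (Equiv.Perm (Fin 5) × Fin 2) = 240 := by
    rw [Nat.card_prod, Nat.card_perm, Nat.card_fin, Nat.card_fin]
    decide
  rw [← hc, ← Set.ncard_univ]
  refine Set.ncard_le_ncard_of_injOn (fun q => (θ q.1 X5, θ q.1 S5, θ q.1 (T5' q.2))) ?_ ?_ (Set.toFinite _)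
  · rintro ⟨σ, i⟩ -
    obtain ⟨h1, h2, h3⟩ := S5_sq
    obtain ⟨h1', h2', h3', h4'⟩ := T5_sq i
    refine ⟨⟨?_, ⟨?_, ?_, ?_⟩, ?_, ?_, ?_, ?_⟩, ?_⟩
    · show orderOf (θ σ X5) = 5
      rw [orderOf_injective _ (hθ σ), X5_order]
    · show θ σ S5 * θ σ X5 * (θ σ S5)⁻¹ = (θ σ X5)⁻¹
      rw [← map_inv, ← map_mul, ← map_mul, ← map_inv, h3]
    · show (θ σ S5) ^ 2 = 1
      rw [← map_pow, h1, map_one]
    · show θ σ S5 ≠ 1
      exact fun h => h2 ((map_eq_one_iff _ (hθ σ)).1 h)
    · show (θ σ (T5' i)) ^ 2 = 1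
      rw [← map_pow, h1', map_one]
    · show θ σ (T5' i) ≠ 1
      exact fun h => h2' ((map_eq_one_iff _ (hθ σ)).1 h)
    · show θ σ (T5' i) ≠ θ σ S5
      exact fun h => h3' (hθ σ h)
    · show θ σ (T5' i) * θ σ S5 = θ σ S5 * θ σ (T5' i)
      rw [← map_mul, ← map_mul, h4']
    · show closure ({θ σ X5, θ σ S5, θ σ (T5' i)} : Set K) = X
      have h5 := congrArg (Subgroup.map (θ σ)) (gen5 i)
      rw [MonoidHom.map_closure, Set.image_insert_eq, Set.image_pair, ← MonoidHom.range_eq_map, hrθ] at h5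
      exact h5
  · rintro ⟨σ, i⟩ - ⟨τ, j⟩ - e
    simp only [Prod.mk.injEq] at e
    obtain ⟨e1, e2, e3⟩ := e
    have f1 := congrArg Subtype.val (hψ e1)
    have f2 := congrArg Subtype.val (hψ e2)
    have f3 := congrArg Subtype.val (hψ e3)
    have g1 : σ * x5 * σ⁻¹ = τ * x5 * τ⁻¹ := f1
    have g2 : σ * s5 * σ⁻¹ = τ * s5 * τ⁻¹ := f2
    have g3 : σ * t5 i * σ⁻¹ = τ * t5 j * τ⁻¹ := f3
    have k : ∀ {a b : Equiv.Perm (Fin 5)}, σ * a * σ⁻¹ = τ * b * τ⁻¹ → (τ⁻¹ * σ) * a = b * (τ⁻¹ * σ) := by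
      intro a b h
      calc (τ⁻¹ * σ) * a = τ⁻¹ * (σ * a * σ⁻¹) * σ := by group
        _ = τ⁻¹ * (τ * b * τ⁻¹) * σ := by rw [h]
        _ = b * (τ⁻¹ * σ) := by group
    obtain ⟨h1, h2⟩ := free5 (τ⁻¹ * σ) (k g1) (k g2) i j (k g3)
    rw [inv_mul_eq_one] at h1
    rw [h1, h2]

/-! ### degree 6 -/

/-- the 5-cycle -/
def x6 : Equiv.Perm (Fin 6) := ⟨![1, 2, 3, 4, 0, 5], ![4, 0, 1, 2, 3, 5], by decide, by decide⟩

def t6 : Fin 4 → Equiv.Perm (Fin 6) := ![⟨![0, 1, 3, 2, 5, 4], ![0, 1, 3, 2, 5, 4], by decide, by decide⟩,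
  ⟨![0, 1, 5, 4, 3, 2], ![0, 1, 5, 4, 3, 2], by decide, by decide⟩,
  ⟨![0, 3, 2, 1, 5, 4], ![0, 3, 2, 1, 5, 4], by decide, by decide⟩,
  ⟨![0, 4, 2, 5, 1, 3], ![0, 4, 2, 5, 1, 3], by decide, by decide⟩]

theorem x6_mem : x6 ∈ A6 := by rw [Equiv.Perm.mem_alternatingGroup]; decide +kernel
theorem t6_mem (i : Fin 4) : t6 i ∈ A6 := by rw [Equiv.Perm.mem_alternatingGroup]; revert i; decide +kernel

def X6 : A6 := ⟨x6, x6_mem⟩
def T6' (i : Fin 4) : A6 := ⟨t6 i, t6_mem i⟩

theorem free6 : ∀ ρ : Equiv.Perm (Fin 6), ρ * x6 = x6 * ρ → ∀ i j : Fin 4, ρ * t6 i = t6 j * ρ →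
    ρ = 1 ∧ i = j := by (set_option synthInstance.maxSize 9000 in open scoped Cfsg.Agent.Lib.FastPerm in decide +kernel)

theorem X6_order : orderOf X6 = 5 :=
  have := Fact.mk Nat.prime_five
  orderOf_eq_prime (by decide +kernel) (by decide +kernel)

theorem T6_sq : ∀ i, T6' i ^ 2 = 1 ∧ T6' i ≠ 1 := by decide +kernel

/-- a word of order 4 -/
theorem T6_four : ∀ i, (¬ (T6' i * X6) ^ (2 ^ 1) = 1 ∧ (T6' i * X6) ^ (2 ^ (1 + 1)) = 1) ∨
    (¬ (T6' i * X6 * X6) ^ (2 ^ 1) = 1 ∧ (T6' i * X6 * X6) ^ (2 ^ (1 + 1)) = 1) := by decide +kernel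

/-- the words of order 3 -/
def wa (i : Fin 4) : A6 := T6' i * X6 * T6' i * X6 * X6 * T6' i * X6 * X6 * X6
def wb (i : Fin 4) : A6 := T6' i * X6 * X6 * X6 * T6' i * X6 * T6' i * X6 * X6
def wc (i : Fin 4) : A6 := X6 * T6' i * X6 * X6 * X6 * T6' i * X6 * X6 * T6' i

theorem T6_nine : ∀ i, (wa i ^ 3 = 1 ∧ wa i ≠ 1) ∧
    ((wb i ^ 3 = 1 ∧ wb i ≠ 1 ∧ wb i ≠ wa i ∧ wb i ≠ wa i ^ 2 ∧ wb i * wa i = wa i * wb i) ∨
     (wc i ^ 3 = 1 ∧ wc i ≠ 1 ∧ wc i ≠ wa i ∧ wc i ≠ wa i ^ 2 ∧ wc i * wa i = wa i * wc i)) := by (set_option synthInstance.maxSize 9000 in open scoped Cfsg.Agent.Lib.FastPerm in decide +kernel)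

theorem card_A6 : Nat.card A6 = 360 := by
  have h := two_mul_nat_card_alternatingGroup (α := Fin 6)
  rw [Nat.card_perm, Nat.card_fin] at h
  have h1 : Nat.factorial 6 = 720 := by decide
  rw [h1] at h
  have h2 : 2 * Nat.card A6 = 720 := h
  omega

theorem gen6 (i : Fin 4) : closure ({X6, T6' i} : Set A6) = ⊤ := by
  have f2 := Fact.mk Nat.prime_two
  have f3 := Fact.mk Nat.prime_three
  set H := closure ({X6, T6' i} : Set A6) with hH
  have hx : X6 ∈ H := subset_closure (by simp)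
  have ht : T6' i ∈ H := subset_closure (by simp)
  have h5 : 5 ∣ Nat.card H := orderOf_dvd_sub hx X6_order
  have h4 : 4 ∣ Nat.card H := by
    rcases T6_four i with ⟨h1, h2⟩ | ⟨h1, h2⟩
    · exact orderOf_dvd_sub (H.mul_mem ht hx) (orderOf_eq_prime_pow h1 h2)
    · exact orderOf_dvd_sub (H.mul_mem (H.mul_mem ht hx) hx) (orderOf_eq_prime_pow h1 h2)
  have ha : wa i ∈ H := by unfold wa; (apply H.mul_mem; apply H.mul_mem; apply H.mul_mem; apply H.mul_mem; apply H.mul_mem; apply H.mul_mem; apply H.mul_mem; apply H.mul_mem; exact ht; exact hx; exact ht; exact hx; exact hx; exact ht; exact hx; exact hx; exact hx)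
  have hb : wb i ∈ H := by unfold wb; (apply H.mul_mem; apply H.mul_mem; apply H.mul_mem; apply H.mul_mem; apply H.mul_mem; apply H.mul_mem; apply H.mul_mem; apply H.mul_mem; exact ht; exact hx; exact hx; exact hx; exact ht; exact hx; exact ht; exact hx; exact hx)
  have hc : wc i ∈ H := by unfold wc; (apply H.mul_mem; apply H.mul_mem; apply H.mul_mem; apply H.mul_mem; apply H.mul_mem; apply H.mul_mem; apply H.mul_mem; apply H.mul_mem; exact hx; exact ht; exact hx; exact hx; exact hx; exact ht; exact hx; exact hx; exact ht)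
  obtain ⟨⟨h1, h2⟩, h3⟩ := T6_nine i
  have hoa : orderOf (wa i) = 3 := orderOf_eq_prime h1 h2
  have h9 : 3 ^ 2 ∣ Nat.card H := by
    rcases h3 with ⟨g1, g2, g3, g4, g5⟩ | ⟨g1, g2, g3, g4, g5⟩
    · refine sq_dvd Nat.prime_three (a := (⟨wa i, ha⟩ : H)) (b := ⟨wb i, hb⟩) ((orderOf_mk _ _).trans hoa)
        ((orderOf_mk _ _).trans (orderOf_eq_prime g1 g2)) (Subtype.ext g5)
        (not_mem_zpowers ((orderOf_mk _ _).trans hoa) ?_)
      intro k hk
      interval_cases k
      · intro e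
        exact g2 (by simpa using (congrArg Subtype.val e).symm)
      · intro e
        exact g3 (by simpa using (congrArg Subtype.val e).symm)
      · intro e
        exact g4 (by simpa using (congrArg Subtype.val e).symm)
    · refine sq_dvd Nat.prime_three (a := (⟨wa i, ha⟩ : H)) (b := ⟨wc i, hc⟩) ((orderOf_mk _ _).trans hoa)
        ((orderOf_mk _ _).trans (orderOf_eq_prime g1 g2)) (Subtype.ext g5)
        (not_mem_zpowers ((orderOf_mk _ _).trans hoa) ?_)
      intro k hk
      interval_cases k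
      · intro e
        exact g2 (by simpa using (congrArg Subtype.val e).symm)
      · intro e
        exact g3 (by simpa using (congrArg Subtype.val e).symm)
      · intro e
        exact g4 (by simpa using (congrArg Subtype.val e).symm)
  have h180 : 180 ∣ Nat.card H := by omega
  have hle : 180 ≤ Nat.card H := Nat.le_of_dvd Nat.card_pos h180
  by_contra hne
  have hsim : IsSimpleGroup A6 := alternatingGroup.isSimpleGroup (by simp)
  have hX : ¬ IsMulCommutative A6 := fun h => by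
    have h1 : X6 * T6' 0 = T6' 0 * X6 := h.is_comm.comm _ _
    revert h1
    decide +kernel
  have h6 := le_index hX (p := 5) (by norm_num) (by rw [card_A6]; norm_num) hne
  have h7 := H.card_mul_index
  rw [card_A6] at h7
  have h8 : 180 * 5 ≤ 360 := by rw [← h7]; exact Nat.mul_le_mul hle h6
  omega

/-- the fibres for the groups of order 360 -/
theorem fib6 {K : Type*} [Group K] [Finite K] {X : Subgroup K} (hs : IsSimpleGroup X) (hX : Nat.card X = 360) :
    2880 ≤ {p : K × K | (orderOf p.1 = 5 ∧ p.2 ^ 2 = 1 ∧ p.2 ≠ 1) ∧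
      closure ({p.1, p.2} : Set K) = X}.ncard := by
  obtain ⟨e⟩ := Cfsg.Agent.S0497.result (G := X) hX
  let ψ : A6 →* K := X.subtype.comp e.symm.toMonoidHom
  have hψ : Function.Injective ψ := Subtype.val_injective.comp e.symm.injective
  have hr : ψ.range = X := by
    rw [MonoidHom.range_comp, MonoidHom.range_eq_top.2 e.symm.surjective, ← MonoidHom.range_eq_map, X.range_subtype]
  let θ : Equiv.Perm (Fin 6) → A6 →* K := fun σ => ψ.comp (MulAut.conjNormal σ : MulAut A6).toMonoidHom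
  have hθ : ∀ σ, Function.Injective (θ σ) := fun σ => hψ.comp (MulAut.conjNormal σ : MulAut A6).injective
  have hrθ : ∀ σ, (θ σ).range = X := by
    intro σ
    have h0 : (MulAut.conjNormal σ : MulAut A6).toMonoidHom.range = ⊤ :=
      MonoidHom.range_eq_top.2 (MulAut.conjNormal σ : MulAut A6).surjective
    rw [MonoidHom.range_comp, h0, ← MonoidHom.range_eq_map, hr]
  have hc : Nat.card (Equiv.Perm (Fin 6) × Fin 4) = 2880 := by
    rw [Nat.card_prod, Nat.card_perm, Nat.card_fin, Nat.card_fin]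
    decide
  rw [← hc, ← Set.ncard_univ]
  refine Set.ncard_le_ncard_of_injOn (fun q => (θ q.1 X6, θ q.1 (T6' q.2))) ?_ ?_ (Set.toFinite _)
  · rintro ⟨σ, i⟩ -
    obtain ⟨h1', h2'⟩ := T6_sq i
    refine ⟨⟨?_, ?_, ?_⟩, ?_⟩
    · show orderOf (θ σ X6) = 5
      rw [orderOf_injective _ (hθ σ), X6_order]
    · show (θ σ (T6' i)) ^ 2 = 1
      rw [← map_pow, h1', map_one]
    · show θ σ (T6' i) ≠ 1
      exact fun h => h2' ((map_eq_one_iff _ (hθ σ)).1 h)
    · show closure ({θ σ X6, θ σ (T6' i)} : Set K) = X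
      have h5 := congrArg (Subgroup.map (θ σ)) (gen6 i)
      rw [MonoidHom.map_closure, Set.image_pair, ← MonoidHom.range_eq_map, hrθ] at h5
      exact h5
  · rintro ⟨σ, i⟩ - ⟨τ, j⟩ - e
    simp only [Prod.mk.injEq] at e
    obtain ⟨e1, e3⟩ := e
    have f1 := congrArg Subtype.val (hψ e1)
    have f3 := congrArg Subtype.val (hψ e3)
    have g1 : σ * x6 * σ⁻¹ = τ * x6 * τ⁻¹ := f1
    have g3 : σ * t6 i * σ⁻¹ = τ * t6 j * τ⁻¹ := f3
    have k : ∀ {a b : Equiv.Perm (Fin 6)}, σ * a * σ⁻¹ = τ * b * τ⁻¹ → (τ⁻¹ * σ) * a = b * (τ⁻¹ * σ) := by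
      intro a b h
      calc (τ⁻¹ * σ) * a = τ⁻¹ * (σ * a * σ⁻¹) * σ := by group
        _ = τ⁻¹ * (τ * b * τ⁻¹) * σ := by rw [h]
        _ = b * (τ⁻¹ * σ) := by group
    obtain ⟨h1, h2⟩ := free6 (τ⁻¹ * σ) (k g1) i j (k g3)
    rw [inv_mul_eq_one] at h1
    rw [h1, h2]

end Cfsg.Agent.H296.JT
end

-- part: H296/JT/Pairs
section
set_option linter.all false
open scoped Cfsg.Agent.FastGrp

/-!
# S3499, `J₃`: the number of simple subgroups (helper296)
-/

set_option autoImplicit false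
set_option linter.unusedSectionVars false
set_option linter.unusedVariables false

namespace Cfsg.Agent.H296.JT

open Subgroup Cfsg Cfsg.Spor Cfsg.Agent.J3Type.OneClass

variable {K : Type} [Group K]

theorem ncard_comm_ne (h : IsoJ3 K) {y : K} (hy : y ^ 2 = 1) (hy1 : y ≠ 1) :
    {x : K | x ^ 2 = 1 ∧ x ≠ 1 ∧ x ≠ y ∧ x * y = y * x}.ncard ≤ 150 := by
  classical
  have := fin_j3 h
  have h1 := ncard_comm h hy hy1
  have e : {x : K | x ^ 2 = 1 ∧ x ≠ 1 ∧ x ≠ y ∧ x * y = y * x} = ({x : K | x ^ 2 = 1 ∧ x * y = y * x} \ {1}) \ {y} := by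
    ext x
    simp only [Set.mem_ofPred_eq, Set.mem_sdiff, Set.mem_singleton_iff]
    tauto
  rw [e, Set.ncard_sdiff_singleton_of_mem (by
    refine ⟨⟨hy, rfl⟩, ?_⟩
    simpa using hy1), Set.ncard_sdiff_singleton_of_mem (by
    refine ⟨one_pow 2, ?_⟩
    rw [one_mul, mul_one])]
  omega

theorem S60 (h : IsoJ3 K) : {X : Subgroup K | IsSimpleGroup X ∧ Nat.card X = 60}.ncard ≤ 62791200 := by
  have := fin_j3 h
  have h1 := mul_ncard_le {X : Subgroup K | IsSimpleGroup X ∧ Nat.card X = 60}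
    {p : K × K × K | (orderOf p.1 = 5 ∧ (p.2.1 * p.1 * p.2.1⁻¹ = p.1⁻¹ ∧ p.2.1 ^ 2 = 1 ∧ p.2.1 ≠ 1) ∧
      (p.2.2 ^ 2 = 1 ∧ p.2.2 ≠ 1 ∧ p.2.2 ≠ p.2.1 ∧ p.2.2 * p.2.1 = p.2.1 * p.2.2))}
    (fun p => closure ({p.1, p.2.1, p.2.2} : Set K)) 240 (fun X hX => fib5 hX.1 hX.2)
  have h2 : {p : K × K × K | (orderOf p.1 = 5 ∧ (p.2.1 * p.1 * p.2.1⁻¹ = p.1⁻¹ ∧ p.2.1 ^ 2 = 1 ∧ p.2.1 ≠ 1) ∧
      (p.2.2 ^ 2 = 1 ∧ p.2.2 ≠ 1 ∧ p.2.2 ≠ p.2.1 ∧ p.2.2 * p.2.1 = p.2.1 * p.2.2))}.ncard ≤ 3348864 * (30 * 150) := by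
    refine ncard_sig_le (S := {x : K | orderOf x = 5}) (R := fun x => {q : K × K |
      (q.1 * x * q.1⁻¹ = x⁻¹ ∧ q.1 ^ 2 = 1 ∧ q.1 ≠ 1) ∧
      (q.2 ^ 2 = 1 ∧ q.2 ≠ 1 ∧ q.2 ≠ q.1 ∧ q.2 * q.1 = q.1 * q.2)}) (ncard_five h) fun x hx => ?_
    refine ncard_sig_le (S := {t : K | t * x * t⁻¹ = x⁻¹ ∧ t ^ 2 = 1 ∧ t ≠ 1}) (R := fun t => {q : K |
      q ^ 2 = 1 ∧ q ≠ 1 ∧ q ≠ t ∧ q * t = t * q}) ?_ fun t ht => ?_
    · rw [← (cn5 h hx).1]
      exact (Set.ncard_le_ncard (fun t ht => ht.1) (Set.toFinite _)).trans (ncard_inverting x)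
    · exact ncard_comm_ne h ht.2.1 ht.2.2
  have h3 := h1.trans h2
  omega

theorem S360 (h : IsoJ3 K) : {X : Subgroup K | IsSimpleGroup X ∧ Nat.card X = 360}.ncard ≤ 30422336 := by
  have := fin_j3 h
  have h1 := mul_ncard_le {X : Subgroup K | IsSimpleGroup X ∧ Nat.card X = 360}
    {p : K × K | (orderOf p.1 = 5 ∧ p.2 ^ 2 = 1 ∧ p.2 ≠ 1)}
    (fun p => closure ({p.1, p.2} : Set K)) 2880 (fun X hX => fib6 hX.1 hX.2)
  have h2 : {p : K × K | (orderOf p.1 = 5 ∧ p.2 ^ 2 = 1 ∧ p.2 ≠ 1)}.ncard ≤ 3348864 * 26163 :=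
    ncard_sig_le (S := {x : K | orderOf x = 5}) (R := fun x => {q : K | q ^ 2 = 1 ∧ q ≠ 1}) (ncard_five h)
      fun x hx => ncard_inv h
  have h3 := h1.trans h2
  omega

/-! ### a Sylow subgroup and an involution -/

/-- generating pairs in a simple subgroup -/
theorem fibP {X : Subgroup K} [Finite K] (hs : IsSimpleGroup X) (hna : ¬ IsMulCommutative X) {p a b : ℕ} (hp : p.Prime)
    (hd : p ∣ Nat.card X) (h2 : ¬ p ^ 2 ∣ Nat.card X) (hlt : Nat.card X < p ^ 2 * (p + 1))
    (ha : ∀ P : Subgroup X, Nat.card P = p → a ≤ (normalizer (P : Set X)).index)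
    (hb : ∀ P : Subgroup X, Nat.card P = p → b ≤ {t : X | t ^ 2 = 1 ∧ t ≠ 1 ∧ t ∉ normalizer (P : Set X)}.ncard) :
    a * b ≤ {q : Subgroup K × K | (Nat.card q.1 = p ∧ q.2 ^ 2 = 1 ∧ q.2 ≠ 1) ∧ q.1 ⊔ zpowers q.2 = X}.ncard := by
  refine (le_ncard_sig (S := {P : Subgroup X | Nat.card P = p})
    (R := fun P => {t : X | t ^ 2 = 1 ∧ t ≠ 1 ∧ t ∉ normalizer (P : Set X)}) (le_ncard_sub hp hd h2 ha) hb).trans ?_
  refine Set.ncard_le_ncard_of_injOn (fun q => (q.1.map X.subtype, (q.2 : K))) ?_ ?_ (Set.toFinite _)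
  · rintro ⟨P, t⟩ ⟨hP, ht, ht1, htn⟩
    have hP' : Nat.card P = p := hP
    refine ⟨⟨?_, ?_, ?_⟩, ?_⟩
    · show Nat.card (P.map X.subtype) = p
      rw [card_map_of_injective X.subtype_injective, hP']
    · show (t : K) ^ 2 = 1
      exact congrArg Subtype.val ht
    · show (t : K) ≠ 1
      exact fun e => ht1 (Subtype.ext e)
    · show P.map X.subtype ⊔ zpowers (t : K) = X
      have h1 : P ⊔ zpowers t = ⊤ := gen_of_not_norm hna hp hd h2 hlt hP' (H := P ⊔ zpowers t) le_sup_left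
        (y := t) (mem_sup_right (mem_zpowers t)) htn
      have h3 := congrArg (Subgroup.map X.subtype) h1
      rw [Subgroup.map_sup, MonoidHom.map_zpowers, ← MonoidHom.range_eq_map, X.range_subtype] at h3
      exact h3
  · rintro ⟨P, t⟩ - ⟨P', t'⟩ - e
    simp only [Prod.mk.injEq] at e
    obtain ⟨e1, e2⟩ := e
    rw [Subgroup.map_injective X.subtype_injective e1, Subtype.ext e2]

/-- the pairs in the big group -/
theorem ncard_pairs (h : IsoJ3 K) {p c : ℕ} (hp : p.Prime) (h2 : ¬ p ^ 2 ∣ Nat.card K)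
    (hc : ∀ P : Subgroup K, Nat.card P = p → (normalizer (P : Set K)).index ≤ c) :
    {q : Subgroup K × K | (Nat.card q.1 = p ∧ q.2 ^ 2 = 1 ∧ q.2 ≠ 1)}.ncard ≤ c * 26163 := by
  have := fin_j3 h
  exact ncard_sig_le (S := {P : Subgroup K | Nat.card P = p}) (R := fun P => {q : K | q ^ 2 = 1 ∧ q ≠ 1})
    (ncard_sub_le hp h2 hc) fun x hx => ncard_inv h

/-- the number of Sylow subgroups of a simple group -/
theorem index_ge {X : Type*} [Group X] [Finite X] [hs : IsSimpleGroup X] {p a : ℕ} (hp : p.Prime) (hlt : p < Nat.card X)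
    (h2 : ¬ p ^ 2 ∣ Nat.card X) (hn : ∀ n < a, n % p = 1 → Nat.card X % n = 0 → n = 1) {P : Subgroup X} (hP : Nat.card P = p) :
    a ≤ (normalizer (P : Set X)).index := by
  obtain ⟨n, h1, h3⟩ := card_norm hp h2 hP
  have h4 := (normalizer (P : Set X)).card_mul_index
  have h5 : (normalizer (P : Set X)).index = n := by
    rw [h3] at h4
    exact Nat.eq_of_mul_eq_mul_left Nat.card_pos h4
  rw [h5]
  by_contra hcon
  push Not at hcon
  have h6 := hn n hcon h1 (by rw [h3]; exact Nat.mul_mod_left _ _)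
  rw [h6, index_eq_one, normalizer_eq_top_iff] at h5
  rcases hs.eq_bot_or_eq_top_of_normal P h5 with h7 | h7
  · rw [h7, card_bot] at hP
    exact hp.one_lt.ne hP
  · rw [h7, card_top] at hP
    omega

/-- involutions -/
theorem inv_ge (h : IsoJ3 K) {X : Subgroup K} {a g n : ℕ} (hn : Nat.card X = n) (h2 : 2 ∣ n) (hg : Nat.gcd n 1920 = g)
    (ha : g * a = n) : a ≤ {t : X | t ^ 2 = 1 ∧ t ≠ 1}.ncard := by
  have := fin_j3 h
  have f2 := Fact.mk Nat.prime_two
  obtain ⟨s, hs⟩ := exists_prime_orderOf_dvd_card' (G := X) 2 (by rw [hn]; exact h2)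
  have hs2 : s ^ 2 = 1 := by rw [← hs, pow_orderOf_eq_one]
  have hs1 : s ≠ 1 := by rintro rfl; rw [orderOf_one] at hs; norm_num at hs
  refine le_trans ?_ (index_cent_le s (S := {t : X | t ^ 2 = 1 ∧ t ≠ 1}) fun g => ⟨?_, ?_⟩)
  · have h1 := (centralizer ({s} : Set X)).card_mul_index
    rw [hn] at h1
    have h3 : Nat.card (centralizer ({s} : Set X)) ∣ n := by rw [← hn]; exact card_subgroup_dvd_card _
    have h4 : Nat.card (centralizer ({s} : Set X)) ∣ 1920 := by
      rw [← ((CpAutJThree.base h).2.1 (s : K) (by rw [Subgroup.orderOf_coe, hs])).2.1]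
      have h5 : (centralizer ({s} : Set X)).map X.subtype ≤ centralizer ({(s : K)} : Set K) := by
        rintro _ ⟨y, hy, rfl⟩
        rw [mem_centralizer_singleton_iff]
        exact congrArg Subtype.val (mem_centralizer_singleton_iff.1 hy)
      have h6 := card_dvd_of_le h5
      rwa [card_map_of_injective X.subtype_injective] at h6
    have h5 : Nat.card (centralizer ({s} : Set X)) ∣ g := by rw [← hg]; exact Nat.dvd_gcd h3 h4
    have hg0 : 0 < g := by
      rw [← hg]; exact Nat.gcd_pos_of_pos_right _ (by norm_num)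
    have h6 := Nat.le_of_dvd hg0 h5
    by_contra hcon
    push Not at hcon
    have h7 : Nat.card (centralizer ({s} : Set X)) * (centralizer ({s} : Set X)).index ≤ g * (centralizer ({s} : Set X)).index :=
      Nat.mul_le_mul_right _ h6
    have h8 : g * (centralizer ({s} : Set X)).index < g * a := Nat.mul_lt_mul_of_pos_left hcon hg0
    omega
  · rw [conj_pow, hs2, mul_one, mul_inv_cancel]
  · intro e
    apply hs1
    rwa [mul_inv_eq_one, mul_eq_left] at e

/-! ### the order 3420 -/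

theorem norm_map_le {X : Subgroup K} {P : Subgroup X} : (normalizer (P : Set X)).map X.subtype ≤
    normalizer ((P.map X.subtype : Subgroup K) : Set K) := by
  rintro _ ⟨y, hy, rfl⟩
  rw [SetLike.mem_coe, mem_normalizer_iff] at hy
  rw [mem_normalizer_iff]
  intro z
  constructor
  · rintro ⟨w, hw, rfl⟩
    exact ⟨y * w * y⁻¹, (hy w).1 hw, rfl⟩
  · rintro ⟨w, hw, e⟩
    refine ⟨y⁻¹ * w * y, ?_, ?_⟩
    · rw [SetLike.mem_coe, hy]
      have e1 : y * (y⁻¹ * w * y) * y⁻¹ = w := by group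
      rw [e1]
      exact hw
    · show (y : K)⁻¹ * (w : K) * y = z
      have e1 : (w : K) = (y : K) * z * (y : K)⁻¹ := e
      rw [e1]
      group

theorem S3420 (h : IsoJ3 K) : {X : Subgroup K | IsSimpleGroup X ∧ Nat.card X = 3420}.ncard ≤ 6741792 := by
  have := fin_j3 h
  have h1 := mul_ncard_le {X : Subgroup K | IsSimpleGroup X ∧ Nat.card X = 3420}
    {q : Subgroup K × K | (Nat.card q.1 = 19 ∧ q.2 ^ 2 = 1 ∧ q.2 ≠ 1)}
    (fun q => q.1 ⊔ zpowers q.2) (20 * 57) (fun X hX => by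
      obtain ⟨hs, hX⟩ := hX
      have hna : ¬ IsMulCommutative X := Cfsg.Agent.SmallSimple.Embed.not_comm_of_card_not_prime (by rw [hX]; norm_num)
      refine fibP hs hna (by norm_num) (by rw [hX]; norm_num) (by rw [hX]; norm_num) (by rw [hX]; norm_num)
        (fun P hP => index_ge (by norm_num) (by rw [hX]; norm_num) (by rw [hX]; norm_num) (by rw [hX]; decide) hP)
        (fun P hP => ?_)
      refine (inv_ge h hX (by norm_num) (g := 60) (a := 57) (by norm_num) (by norm_num)).trans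
        (Set.ncard_le_ncard ?_ (Set.toFinite _))
      rintro t ⟨ht, ht1⟩
      refine ⟨ht, ht1, fun hn => ?_⟩
      have h3 : (t : K) ∈ normalizer ((P.map X.subtype : Subgroup K) : Set K) := norm_map_le ⟨t, hn, rfl⟩
      have h4 := orderOf_dvd_sub h3 (n := 2) (by rw [Subgroup.orderOf_coe]; exact orderOf_eq_prime ht ht1)
      rw [(Cfsg.Agent.H715.Fpr.J3.cn19 h (R := P.map X.subtype)
        (by rw [card_map_of_injective X.subtype_injective, hP])).2] at h4
      norm_num at h4)
  have h2 := ncard_pairs h (p := 19) (by norm_num) (by rw [card_j3 h]; norm_num) (idx19 h)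
  have h3 := h1.trans h2
  omega

/-! ### the order 2448 -/

/-- the involutions normalizing a subgroup of order 17 -/
theorem ncard_norm17 (h : IsoJ3 K) {P : Subgroup K} (hP : Nat.card P = 17) :
    {t : K | t ^ 2 = 1 ∧ t ≠ 1 ∧ t ∈ normalizer (P : Set K)}.ncard ≤ 17 := by
  have := fin_j3 h
  obtain ⟨x, hx, rfl⟩ := exists_gen (by norm_num) hP
  have hC := (H898.J3Cent.seventeen h hx).1
  rw [← hC]
  refine (Set.ncard_le_ncard ?_ (Set.toFinite _)).trans (ncard_inverting x)
  rintro t ⟨ht, ht1, htn⟩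
  have hno : t * x ≠ x * t := by
    intro e
    have h1 := orderOf_dvd_sub (H := centralizer ({x} : Set K)) (mem_centralizer_singleton_iff.2 e)
      (orderOf_eq_prime ht ht1)
    rw [hC] at h1
    norm_num at h1
  have h1 : t * x * t⁻¹ ∈ zpowers x := (mem_normalizer_iff.1 htn x).1 (mem_zpowers x)
  have hti : t⁻¹ = t := by
    rw [inv_eq_iff_mul_eq_one, ← pow_two]; exact ht
  show t * x * t⁻¹ = x⁻¹
  by_contra hne
  apply hno
  set y := t * x * t⁻¹ * x with hy
  have hyz : y ∈ zpowers x := mul_mem h1 (mem_zpowers x)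
  have hy1 : y ≠ 1 := by
    intro e
    apply hne
    rw [hy, mul_eq_one_iff_eq_inv] at e
    exact e
  have hcomm : t * x * t⁻¹ * x = x * (t * x * t⁻¹) := by
    obtain ⟨k, hk⟩ := mem_zpowers_iff.1 h1
    rw [← hk]
    exact ((Commute.refl x).zpow_left k).eq
  have hty : t * y = y * t := by
    have tt : t * t = 1 := by rw [← pow_two]; exact ht
    calc t * y = t * (t * x * t⁻¹ * x) := by rw [hy]
      _ = t * (x * (t * x * t⁻¹)) := by rw [hcomm]
      _ = (t * x * t⁻¹) * (t * t) * x * t⁻¹ := by group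
      _ = (t * x * t⁻¹) * x * t⁻¹ := by rw [tt, mul_one]
      _ = y * t := by rw [← hy, hti]
  have hzy : zpowers y = zpowers x := by
    apply eq_of_le_of_card_ge (zpowers_le.2 hyz)
    have h7 : orderOf y ∣ 17 := by
      have h7 := Subgroup.orderOf_dvd_natCard _ hyz
      rwa [Nat.card_zpowers, hx] at h7
    have h8 : orderOf y = 17 := ((Nat.dvd_prime (by norm_num)).1 h7).resolve_left
      fun h => hy1 (orderOf_eq_one_iff.1 h)
    rw [Nat.card_zpowers, Nat.card_zpowers, h8, hx]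
  have hxy : x ∈ zpowers y := by rw [hzy]; exact mem_zpowers x
  obtain ⟨k, hk⟩ := mem_zpowers_iff.1 hxy
  rw [← hk]
  exact ((show Commute t y from hty).zpow_right k).eq

theorem S2448 (h : IsoJ3 K) : {X : Subgroup K | IsSimpleGroup X ∧ Nat.card X = 2448}.ncard ≤ 15790140 := by
  have := fin_j3 h
  have h1 := mul_ncard_le {X : Subgroup K | IsSimpleGroup X ∧ Nat.card X = 2448}
    {q : Subgroup K × K | (Nat.card q.1 = 17 ∧ q.2 ^ 2 = 1 ∧ q.2 ≠ 1)}
    (fun q => q.1 ⊔ zpowers q.2) (18 * 34) (fun X hX => by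
      obtain ⟨hs, hX⟩ := hX
      have hna : ¬ IsMulCommutative X := Cfsg.Agent.SmallSimple.Embed.not_comm_of_card_not_prime (by rw [hX]; norm_num)
      refine fibP hs hna (by norm_num) (by rw [hX]; norm_num) (by rw [hX]; norm_num) (by rw [hX]; norm_num)
        (fun P hP => index_ge (by norm_num) (by rw [hX]; norm_num) (by rw [hX]; norm_num) (by rw [hX]; decide) hP)
        (fun P hP => ?_)
      have h3 := inv_ge h hX (by norm_num) (g := 48) (a := 51) (by norm_num) (by norm_num)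
      have h4 : {t : X | t ^ 2 = 1 ∧ t ≠ 1 ∧ t ∈ normalizer (P : Set X)}.ncard ≤ 17 := by
        refine le_trans ?_ (ncard_norm17 h (P := P.map X.subtype)
          (by rw [card_map_of_injective X.subtype_injective, hP]))
        refine Set.ncard_le_ncard_of_injOn (fun t => (t : K)) ?_ (Subtype.val_injective.injOn) (Set.toFinite _)
        rintro t ⟨ht, ht1, htn⟩
        exact ⟨congrArg Subtype.val ht, fun e => ht1 (Subtype.ext e), norm_map_le ⟨t, htn, rfl⟩⟩
      have h5 : {t : X | t ^ 2 = 1 ∧ t ≠ 1}.ncard ≤ {t : X | t ^ 2 = 1 ∧ t ≠ 1 ∧ t ∉ normalizer (P : Set X)}.ncard +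
          {t : X | t ^ 2 = 1 ∧ t ≠ 1 ∧ t ∈ normalizer (P : Set X)}.ncard := by
        refine (Set.ncard_le_ncard ?_ (Set.toFinite _)).trans (Set.ncard_union_le _ _)
        rintro t ⟨ht, ht1⟩
        by_cases htn : t ∈ normalizer (P : Set X)
        · exact Or.inr ⟨ht, ht1, htn⟩
        · exact Or.inl ⟨ht, ht1, htn⟩
      omega)
  have h2 := ncard_pairs h (p := 17) (by norm_num) (by rw [card_j3 h]; norm_num) (idx17 h)
  have h3 := h1.trans h2
  omega

/-! ### the order 4080 -/

theorem inf_bot {X : Type*} [Group X] [Finite X] {p : ℕ} (hp : p.Prime) {P Q : Subgroup X} (hP : Nat.card P = p)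
    (hQ : Nat.card Q = p) (hne : P ≠ Q) : P ⊓ Q = ⊥ := by
  have h1 : Nat.card ↥(P ⊓ Q) ∣ p := by rw [← hP]; exact card_dvd_of_le inf_le_left
  rcases (Nat.dvd_prime hp).1 h1 with h2 | h2
  · exact Subgroup.card_eq_one.1 h2
  · exfalso
    have h3 : P ⊓ Q = P := Subgroup.eq_of_le_of_card_ge inf_le_left (by rw [h2, hP])
    have h4 : P ⊓ Q = Q := Subgroup.eq_of_le_of_card_ge inf_le_right (by rw [h2, hQ])
    exact hne (h3.symm.trans h4)

/-- another Sylow subgroup does not normalize -/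
theorem not_norm {X : Type*} [Group X] [Finite X] {p : ℕ} (hp : p.Prime) (h2 : ¬ p ^ 2 ∣ Nat.card X) {P Q : Subgroup X}
    (hP : Nat.card P = p) (hQ : Nat.card Q = p) (hne : P ≠ Q) : ∃ y ∈ Q, y ∉ normalizer (P : Set X) := by
  by_contra hcon
  push Not at hcon
  have hQN : Q ≤ normalizer (P : Set X) := hcon
  have hPN : P ≤ normalizer (P : Set X) := le_normalizer
  have hinf : Q.subgroupOf (normalizer (P : Set X)) ⊓ P.subgroupOf (normalizer (P : Set X)) = ⊥ := by
    rw [eq_bot_iff]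
    rintro y ⟨hy1, hy2⟩
    have h3 : (y : X) ∈ P ⊓ Q := ⟨hy2, hy1⟩
    rw [inf_bot hp hP hQ hne, mem_bot] at h3
    rw [mem_bot]
    exact Subtype.ext h3
  have h3 := Cfsg.Agent.H59.EP.card_mul_dvd hinf
  rw [Nat.card_congr (Subgroup.subgroupOfEquivOfLe hQN).toEquiv, Nat.card_congr (Subgroup.subgroupOfEquivOfLe hPN).toEquiv,
    hP, hQ, ← pow_two] at h3
  exact h2 (h3.trans (card_subgroup_dvd_card _))

theorem S4080 (h : IsoJ3 K) : {X : Subgroup K | IsSimpleGroup X ∧ Nat.card X = 4080}.ncard ≤ 9553698 := by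
  classical
  have := fin_j3 h
  have hp : Nat.Prime 17 := by norm_num
  have h1 := mul_ncard_le {X : Subgroup K | IsSimpleGroup X ∧ Nat.card X = 4080}
    {q : Subgroup K × Subgroup K | (Nat.card q.1 = 17 ∧ Nat.card q.2 = 17)}
    (fun q => q.1 ⊔ q.2) (120 * 119) (fun X hX => by
      obtain ⟨hs, hX⟩ := hX
      have hna : ¬ IsMulCommutative X := Cfsg.Agent.SmallSimple.Embed.not_comm_of_card_not_prime (by rw [hX]; norm_num)
      have h2X : ¬ 17 ^ 2 ∣ Nat.card X := by rw [hX]; norm_num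
      have h3 : 120 ≤ {P : Subgroup X | Nat.card P = 17}.ncard := le_ncard_sub hp (by rw [hX]; norm_num) h2X
        (fun P hP => index_ge hp (by rw [hX]; norm_num) h2X (by rw [hX]; decide) hP)
      refine (le_ncard_sig (S := {P : Subgroup X | Nat.card P = 17})
        (R := fun P => {Q : Subgroup X | Nat.card Q = 17 ∧ P ≠ Q}) h3 (b := 119) fun P hP => ?_).trans ?_
      · have e : {Q : Subgroup X | Nat.card Q = 17 ∧ P ≠ Q} = {Q : Subgroup X | Nat.card Q = 17} \ {P} := by
          ext Q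
          simp only [Set.mem_ofPred_eq, Set.mem_sdiff, Set.mem_singleton_iff]
          constructor
          · rintro ⟨h1, h2⟩
            exact ⟨h1, fun h => h2 h.symm⟩
          · rintro ⟨h1, h2⟩
            exact ⟨h1, fun h => h2 h.symm⟩
        rw [e, Set.ncard_sdiff_singleton_of_mem hP]
        omega
      · refine Set.ncard_le_ncard_of_injOn (fun q => (q.1.map X.subtype, q.2.map X.subtype)) ?_ ?_ (Set.toFinite _)
        · rintro ⟨P, Q⟩ ⟨hP, hQ, hne⟩
          have hP' : Nat.card P = 17 := hP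
          refine ⟨⟨?_, ?_⟩, ?_⟩
          · show Nat.card (P.map X.subtype) = 17
            rw [card_map_of_injective X.subtype_injective, hP']
          · show Nat.card (Q.map X.subtype) = 17
            rw [card_map_of_injective X.subtype_injective, hQ]
          · show P.map X.subtype ⊔ Q.map X.subtype = X
            obtain ⟨y, hy, hyn⟩ := not_norm hp h2X hP' hQ hne
            have h1 : P ⊔ Q = ⊤ := gen_of_not_norm hna hp (by rw [hX]; norm_num) h2X (by rw [hX]; norm_num) hP'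
              (H := P ⊔ Q) le_sup_left (y := y) (mem_sup_right hy) hyn
            have h3 := congrArg (Subgroup.map X.subtype) h1
            rw [Subgroup.map_sup, ← MonoidHom.range_eq_map, X.range_subtype] at h3
            exact h3
        · rintro ⟨P, t⟩ - ⟨P', t'⟩ - e
          simp only [Prod.mk.injEq] at e
          obtain ⟨e1, e2⟩ := e
          rw [Subgroup.map_injective X.subtype_injective e1, Subgroup.map_injective X.subtype_injective e2])
  have h17 : {P : Subgroup K | Nat.card P = 17}.ncard ≤ 369360 :=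
    ncard_sub_le hp (by rw [card_j3 h]; norm_num) (idx17 h)
  have h2 : {q : Subgroup K × Subgroup K | (Nat.card q.1 = 17 ∧ Nat.card q.2 = 17)}.ncard ≤ 369360 * 369360 :=
    ncard_sig_le (S := {P : Subgroup K | Nat.card P = 17}) (R := fun P => {P : Subgroup K | Nat.card P = 17}) h17
      fun _ _ => h17
  have h3 := h1.trans h2
  omega

/-! ### the order 25920 -/

theorem relIndex_mul_card' {X : Type*} [Group X] {H L : Subgroup X} (hHL : H ≤ L) :
    H.relIndex L * Nat.card H = Nat.card L := by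
  have h := (H.subgroupOf L).index_mul_card
  rw [Nat.card_congr (Subgroup.subgroupOfEquivOfLe hHL).toEquiv] at h
  exact h

theorem S25920 (h : IsoJ3 K) {X : Subgroup K} (hs : IsSimpleGroup X) (hX : Nat.card X = 25920) : False := by
  have := fin_j3 h
  have f5 := Fact.mk Nat.prime_five
  obtain ⟨x, hx⟩ := exists_prime_orderOf_dvd_card' (G := X) 5 (by rw [hX]; norm_num)
  have hxK : orderOf (x : K) = 5 := by rw [Subgroup.orderOf_coe, hx]
  have hC := Cfsg.Agent.SmallSimple.S1000.Order25920Local.self_cent hX hx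
  obtain ⟨hcK, hnK⟩ := cn5 h hxK
  have hP : Nat.card (zpowers x) = 5 := by rw [Nat.card_zpowers, hx]
  obtain ⟨n, hn, hcard⟩ := card_norm Nat.prime_five (by rw [hX]; norm_num) hP
  -- `|N| ≤ 10`
  set N := normalizer ((zpowers x : Subgroup X) : Set X) with hN
  have hmap : (zpowers x).map X.subtype = zpowers (x : K) := MonoidHom.map_zpowers _ _
  have h1 : (centralizer ({(x : K)} : Set K)).relIndex (normalizer ((zpowers (x : K) : Subgroup K) : Set K)) = 2 := by
    have h2 := relIndex_mul_card' (H := centralizer ({(x : K)} : Set K))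
      (L := normalizer ((zpowers (x : K) : Subgroup K) : Set K)) (cent_le_norm (s := 2) rfl)
    rw [hcK, hnK] at h2
    omega
  have h2 : N.map X.subtype ≤ normalizer ((zpowers (x : K) : Subgroup K) : Set K) := by
    rw [← hmap]
    exact norm_map_le
  have h3 := relIndex_le_of_le_right (H := centralizer ({(x : K)} : Set K)) h2 (by rw [h1]; norm_num)
  rw [h1] at h3
  have h4 := relIndex_mul_card' (H := centralizer ({(x : K)} : Set K) ⊓ N.map X.subtype) (L := N.map X.subtype) inf_le_right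
  rw [inf_relIndex_right, card_map_of_injective X.subtype_injective] at h4
  have h5 : Nat.card ↥(centralizer ({(x : K)} : Set K) ⊓ N.map X.subtype) ≤ 5 := by
    rw [← hP, ← card_map_of_injective X.subtype_injective]
    refine Nat.card_le_card_of_injective _ (Subgroup.inclusion_injective ?_)
    rintro _ ⟨hy, ⟨y, hyN, rfl⟩⟩
    refine ⟨y, ?_, rfl⟩
    rw [← hC, SetLike.mem_coe, mem_centralizer_singleton_iff]
    exact Subtype.ext (mem_centralizer_singleton_iff.1 hy)
  have h6 : Nat.card N ≤ 10 := by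
    rw [← h4]
    exact (Nat.mul_le_mul h3 h5)
  have h7 : 5 ∣ Nat.card N := by rw [← hP]; exact card_dvd_of_le le_normalizer
  have h8 : 0 < Nat.card N := Nat.card_pos
  rw [hX] at hcard
  have h9 : Nat.card N = 5 ∨ Nat.card N = 10 := by omega
  rcases h9 with h9 | h9 <;> rw [h9] at hcard <;> omega

end Cfsg.Agent.H296.JT
end

-- part: H296/JT/Count
section
set_option linter.all false
open scoped Cfsg.Agent.FastGrp

/-!
# S3499, `J₃`: the number of elementary abelian and simple subgroups (helper296)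
-/

set_option autoImplicit false
set_option linter.unusedSectionVars false
set_option linter.unusedVariables false

namespace Cfsg.Agent.H296.JT

open Subgroup Cfsg Cfsg.Spor Cfsg.Agent.H59.EP

/-- the elementary abelian and the proper simple nonabelian subgroups -/
def Adm (K : Type*) [Group K] : Set (Subgroup K) :=
  {X | (∃ s : ℕ, s.Prime ∧ s ∣ Nat.card K ∧ ElAb s X ∧ X ≠ ⊥) ∨ ((IsSimpleGroup X ∧ ¬ Group.IsSolvable X) ∧ X ≠ ⊤)}

theorem not_comm_of_not_solvable {X : Type*} [Group X] (h : ¬ Group.IsSolvable X) : ¬ ∀ a b : X, a * b = b * a :=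
  fun hc => h (Group.isSolvable_of_comm hc)

variable {K : Type} [Group K]

theorem ncard_adm (B : Cfsg.Agent.H940.Eng.Base) (h : IsoJ3 K) : (Adm K).ncard ≤ 141880942 := by
  have := fin_j3 h
  have hsub : Adm K ⊆ (((((((({E : Subgroup K | ElAb 2 E ∧ E ≠ ⊥} ∪ {E : Subgroup K | ElAb 3 E ∧ E ≠ ⊥}) ∪
      {E : Subgroup K | ElAb 5 E ∧ E ≠ ⊥}) ∪ {E : Subgroup K | ElAb 17 E ∧ E ≠ ⊥}) ∪
      {E : Subgroup K | ElAb 19 E ∧ E ≠ ⊥}) ∪ {X : Subgroup K | IsSimpleGroup X ∧ Nat.card X = 60}) ∪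
      {X : Subgroup K | IsSimpleGroup X ∧ Nat.card X = 360}) ∪ {X : Subgroup K | IsSimpleGroup X ∧ Nat.card X = 2448}) ∪
      {X : Subgroup K | IsSimpleGroup X ∧ Nat.card X = 3420}) ∪ {X : Subgroup K | IsSimpleGroup X ∧ Nat.card X = 4080} := by
    rintro X (⟨s, hs, hd, hE, hne⟩ | ⟨⟨hX, hns⟩, hne⟩)
    · rw [card_j3 h] at hd
      rcases Cfsg.Agent.H898.J3Cent.prime_dvd_card hs hd with rfl | rfl | rfl | rfl | rfl
      · exact Or.inl (Or.inl (Or.inl (Or.inl (Or.inl (Or.inl (Or.inl (Or.inl (Or.inl ⟨hE, hne⟩))))))))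
      · exact Or.inl (Or.inl (Or.inl (Or.inl (Or.inl (Or.inl (Or.inl (Or.inl (Or.inr ⟨hE, hne⟩))))))))
      · exact Or.inl (Or.inl (Or.inl (Or.inl (Or.inl (Or.inl (Or.inl (Or.inr ⟨hE, hne⟩)))))))
      · exact Or.inl (Or.inl (Or.inl (Or.inl (Or.inl (Or.inl (Or.inr ⟨hE, hne⟩))))))
      · exact Or.inl (Or.inl (Or.inl (Or.inl (Or.inl (Or.inr ⟨hE, hne⟩)))))
    · have h1 := Cfsg.Agent.H940.Eng.D.ords_j3 B X hX (not_comm_of_not_solvable hns) (by
        have h2 := card_subgroup_dvd_card X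
        rw [card_j3 h] at h2
        exact h2)
      simp only [Cfsg.Agent.H940.Eng.D.o_j3, List.mem_cons, List.not_mem_nil, or_false] at h1
      rcases h1 with h1 | h1 | h1 | h1 | h1 | h1 | h1
      · exact Or.inl (Or.inl (Or.inl (Or.inl (Or.inr ⟨hX, h1⟩))))
      · exact Or.inl (Or.inl (Or.inl (Or.inr ⟨hX, h1⟩)))
      · exact Or.inl (Or.inl (Or.inr ⟨hX, h1⟩))
      · exact Or.inl (Or.inr ⟨hX, h1⟩)
      · exact Or.inr ⟨hX, h1⟩
      · exact (S25920 h hX h1).elim
      · exact absurd (eq_top_of_card_eq X (by rw [h1, card_j3 h])) hne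
  have h2 := T2 h
  have h3 := T3 h
  have h5 := T5 h
  have h17 := T17 h
  have h19 := T19 h
  have g1 := S60 h
  have g2 := S360 h
  have g3 := S2448 h
  have g4 := S3420 h
  have g5 := S4080 h
  refine (Set.ncard_le_ncard hsub (Set.toFinite _)).trans ?_
  refine (Set.ncard_union_le _ _).trans ((Nat.add_le_add ?_ g5).trans (by norm_num : 132327244 + 9553698 ≤ 141880942))
  refine (Set.ncard_union_le _ _).trans ((Nat.add_le_add ?_ g4).trans (by norm_num : 125585452 + 6741792 ≤ 132327244))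
  refine (Set.ncard_union_le _ _).trans ((Nat.add_le_add ?_ g3).trans (by norm_num : 109795312 + 15790140 ≤ 125585452))
  refine (Set.ncard_union_le _ _).trans ((Nat.add_le_add ?_ g2).trans (by norm_num : 79372976 + 30422336 ≤ 109795312))
  refine (Set.ncard_union_le _ _).trans ((Nat.add_le_add ?_ g1).trans (by norm_num : 16581776 + 62791200 ≤ 79372976))
  refine (Set.ncard_union_le _ _).trans ((Nat.add_le_add ?_ h19).trans (by norm_num : 16288016 + 293760 ≤ 16581776))
  refine (Set.ncard_union_le _ _).trans ((Nat.add_le_add ?_ h17).trans (by norm_num : 15918656 + 369360 ≤ 16288016))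
  refine (Set.ncard_union_le _ _).trans ((Nat.add_le_add ?_ h5).trans (by norm_num : 15081440 + 837216 ≤ 15918656))
  exact (Set.ncard_union_le _ _).trans ((Nat.add_le_add h2 h3).trans (by norm_num))

theorem sixteen_adm (h : IsoJ3 K) {X : Subgroup K} (hX : X ∈ Adm K) : 16 ≤ Nat.card (normalizer (X : Set K)) := by
  have := fin_j3 h
  rcases hX with ⟨s, hs, hd, hE, hne⟩ | ⟨⟨hX, hns⟩, hne⟩
  · exact sixteen h hs hd hE hne
  · have h1 := Cfsg.Agent.H168.NoSolv.sixty_le hns
    have h2 : Nat.card X ≤ Nat.card (normalizer (X : Set K)) :=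
      Nat.card_le_card_of_injective _ (Subgroup.inclusion_injective le_normalizer)
    omega

/-! ### transport -/

section transport
variable {N L : Type*} [Group N] [Group L] (e : N ≃* L)

theorem map_adm {X : Subgroup N} (hX : X ∈ Adm N) : X.map e.toMonoidHom ∈ Adm L := by
  rcases hX with ⟨s, hs, hd, hE, hne⟩ | ⟨⟨hX, hns⟩, hne⟩
  · left
    refine ⟨s, hs, ?_, ⟨?_, ?_⟩, ?_⟩
    · rwa [← Nat.card_congr e.toEquiv]
    · rintro _ ⟨a, ha, rfl⟩ _ ⟨b, hb, rfl⟩
      rw [← map_mul, ← map_mul, hE.comm a ha b hb]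
    · rintro _ ⟨a, ha, rfl⟩
      rw [← map_pow, hE.exp a ha, map_one]
    · intro e'
      rw [Subgroup.map_eq_bot_iff_of_injective _ e.injective] at e'
      exact hne e'
  · right
    let f : X ≃* X.map e.toMonoidHom := X.equivMapOfInjective _ e.injective
    refine ⟨⟨f.symm.isSimpleGroup, fun h => hns (Group.isSolvable_of_isSolvable_injective (f := f.toMonoidHom) f.injective)⟩, ?_⟩
    intro e'
    apply hne
    have h1 := congrArg (Subgroup.comap e.toMonoidHom) e'
    rwa [Subgroup.comap_map_eq_self_of_injective e.injective, Subgroup.comap_top] at h1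

theorem ncard_adm_le [Finite N] [Finite L] (e : N ≃* L) : (Adm N).ncard ≤ (Adm L).ncard :=
  Set.ncard_le_ncard_of_injOn (fun X => X.map e.toMonoidHom) (fun X hX => map_adm e hX)
    (fun X _ Y _ h => Subgroup.map_injective e.injective h) (Set.toFinite _)

theorem card_normalizer_map (X : Subgroup N) : Nat.card (normalizer ((X.map e.toMonoidHom : Subgroup L) : Set L)) =
    Nat.card (normalizer (X : Set N)) := by
  have h1 : normalizer ((X.map e.toMonoidHom : Subgroup L) : Set L) = (normalizer (X : Set N)).map e.toMonoidHom := by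
    ext y
    obtain ⟨n, rfl⟩ := e.surjective y
    rw [mem_normalizer_iff]
    constructor
    · intro h
      refine ⟨n, ?_, rfl⟩
      rw [SetLike.mem_coe, mem_normalizer_iff]
      intro z
      have h2 := h (e z)
      have h3 : ∀ w : N, e w ∈ X.map e.toMonoidHom ↔ w ∈ X := fun w =>
        ⟨fun ⟨v, hv, e'⟩ => by rwa [← e.injective e'], fun hw => ⟨w, hw, rfl⟩⟩
      rwa [← map_inv, ← map_mul, ← map_mul, h3, h3] at h2
    · rintro ⟨m, hm, e'⟩ z
      have hmn : m = n := e.injective e'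
      subst hmn
      obtain ⟨w, rfl⟩ := e.surjective z
      rw [SetLike.mem_coe, mem_normalizer_iff] at hm
      have h3 : ∀ w : N, e w ∈ X.map e.toMonoidHom ↔ w ∈ X := fun w =>
        ⟨fun ⟨v, hv, e'⟩ => by rwa [← e.injective e'], fun hw => ⟨w, hw, rfl⟩⟩
      rw [← map_inv, ← map_mul, ← map_mul, h3, h3]
      exact hm w
  rw [h1, card_map_of_injective e.injective]

end transport

end Cfsg.Agent.H296.JT

private theorem dce_67525be178a5 : _root_.True := by
  try have : _root_.True := by simp only [_root_.Cfsg.Agent.H940.Eng.D.o_j3.eq_1]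
  exact _root_.True.intro
end
end
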